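import Cfsg.Agent.H142.EP.T4
import Cfsg.Agent.H892.EP.Rows
import Cfsg.Agent.H369.Ti.Facts
import Cfsg.Agent.H270.NS.Tits
import Cfsg.Agent.H488.PBRow.TitsThree
import Cfsg.Agent.H678.DG.Sph
import Cfsg.Agent.H707.RowTitsModel

/-!
# The Tits group in S4929 (helper855)

`p = 3, 5`: the centralizer of a Sylow `p`-subgroup is a `p`-group (centralizers of involutions have orders dividing
`2 ^ n * 15`), and there are irreducible characters of degrees 650 and 78. `p = 13`: a real element of order 13.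

The isomorphism of `Lie.TitsGroup` with the permutation group `RuTits.T` is a hypothesis
(`Cfsg.Agent.H707.RowTits.equiv`, which uses S0000).
-/

set_option autoImplicit false
set_option maxRecDepth 100000
set_option exponentiation.threshold 5000

universe u v

namespace Cfsg.Agent.H855.EP.Tits

/-! ### Characters of degrees 78 and 650 (copied from `H678/DG/Tits.lean`, without S0000) -/

section chars

open Cfsg Cfsg.Agent.H707.RowTitsModel
open Cfsg.Agent.SporadicB.RuData Cfsg.Agent.SporadicB.RuOrder Cfsg.Agent.SporadicB.RuTitsData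
open Cfsg.Agent.SporadicB.RuTits
open Cfsg.Agent.Lib.BitNet Cfsg.Agent.Lib.BitNetSimple
open Cfsg.Agent.H678.DG
open MulAction

/-- The sizes of the classes. -/
def kk : Fin 5 → ℕ := ![1, 10, 80, 640, 1024]

theorem cm_card : ∀ i, Nat.beq (popc 12 (cm i)) (kk i) = true := by decide +kernel

theorem cm_row : ∀ i, Nat.beq (Nat.land (cm i) (row 0)) (cm i) = true := by decide +kernel

theorem cm_lt : ∀ i, Nat.blt (cm i) (Nat.pow 2 4060) = true := by decide +kernel

theorem card_cls (j : Fin 5) : (Finset.univ.filter fun y : X => cls y = j).card = kk j := by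
  have h1 : (Finset.univ.filter fun y : X => cls y = j).card = (pts 4060 (cm j)).card := by
    rw [← Finset.card_map (Function.Embedding.subtype _)]
    congr 1
    ext y
    rw [Finset.mem_map, mem_pts]
    constructor
    · rintro ⟨z, hz, rfl⟩
      exact (cls_iff _ _).1 (Finset.mem_filter.1 hz).2
    · intro h
      have h2 : (row 0).testBit y = true := by
        have h3 := Nat.eq_of_beq_eq_true (cm_row j)
        have h4 : Nat.land (cm j) (row 0) = cm j &&& row 0 := rfl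
        rw [h4] at h3
        rw [← h3, Nat.testBit_and, Bool.and_eq_true] at h
        exact h.2
      exact ⟨⟨y, h2⟩, Finset.mem_filter.2 ⟨Finset.mem_univ _, (cls_iff _ _).2 h⟩, rfl⟩
  rw [h1]
  have h2 := Nat.eq_of_beq_eq_true (cm_card j)
  apply le_antisymm
  · rw [← h2]
    exact card_pts_le (by norm_num) _
  · rw [← h2]
    refine card_pts_eq fun k hk => ?_
    by_contra hlt
    have h3 := cm_lt j
    rw [Nat.blt_eq] at h3
    have h4 : cm j < 2 ^ k := lt_of_lt_of_le h3 (Nat.pow_le_pow_right (by norm_num) (not_lt.1 hlt))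
    rw [Nat.testBit_lt_two_pow h4] at hk
    exact Bool.noConfusion hk

theorem card_X : Fintype.card X = 1755 := by
  classical
  rw [← Finset.card_univ, Finset.card_eq_sum_card_fiberwise (f := cls) (t := Finset.univ)
    (fun _ _ => Finset.mem_univ _), Finset.sum_congr rfl fun j _ => card_cls j]
  decide +kernel

theorem trans : MulAction.IsPretransitive T X := by
  have key : ∀ x : X, ∃ g : T, g • r 0 = x := by
    intro x
    have h2 : x.1 ∈ orbit T p1 := by
      rw [orbit_eq]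
      exact x.2
    obtain ⟨g, hg⟩ := h2
    exact ⟨g, Subtype.ext hg⟩
  refine ⟨fun x y => ?_⟩
  obtain ⟨g, rfl⟩ := key x
  obtain ⟨h, rfl⟩ := key y
  exact ⟨h * g⁻¹, by rw [mul_smul, inv_smul_smul]⟩

/-- The degree for an eigenvalue. -/
theorem deg (a : Fin 5 → ℚ) (t : ℚ) (L : Fin 5 → Fin 5 → ℚ) (d : ℕ)
    (ha : a 0 = 1) (hBa : ∀ i, ∑ j, (B i j : ℚ) * a j = t * a i)
    (hL : ∀ i j, ∑ l, L i l * ((B l j : ℚ) - if l = j then t else 0) =
      (if i = j then 1 else 0) - if j = 0 then a i else 0)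
    (hd : (d : ℚ) * ∑ j, (kk j : ℚ) * (a j * a j) = (1755 : ℕ)) :
    ∃ χ : IrrCharacter T, charDegree (χ : T → ℂ) = d := by
  have := trans
  refine Sph.exists_of_graph_rat E E_smul (r 0) (MulAction.stabilizer T (r 0)) (fun _ h => h) cls r ?_ ?_ B count kk
    card_cls 0 (cls_r 0) a t L d 1755 card_X ha hBa hL hd
  · intro g hg x
    rw [cls_iff, smul_val]
    have h1 : g.1 p1 = p1 := congrArg Subtype.val hg
    rw [inv _ g.2 h1]
    exact cls_spec x
  · intro x
    obtain ⟨k, hk⟩ := orb_i (cls x)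
    obtain ⟨g, hg, hgx⟩ := exists_of_iterF (b := (r (cls x)).1) gensT1 hk (cls_spec x)
    exact ⟨⟨g, hg.1⟩, Subtype.ext hg.2, Subtype.ext hgx⟩

theorem deg_78 : ∃ χ : IrrCharacter T, charDegree (χ : T → ℂ) = 78 :=
  deg ![1, -1/2, 1/4, -1/8, 1/16] 64 ![![0, 0, 0, 0, 0], ![-1/128, -1/64, 1/40, 0, 0], ![1/256, 1/320, -1/32, 1/40, 0],
    ![-1/512, 0, 1/320, 0, 0], ![1/1024, 0, 0, 0, 0]] 78 (by decide +kernel) (by decide +kernel) (by decide +kernel)
    (by decide +kernel)

theorem deg_650 : ∃ χ : IrrCharacter T, charDegree (χ : T → ℂ) = 650 :=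
  deg ![1, 1/10, -1/8, -1/80, 1/64] 16 ![![0, 0, 0, 0, 0], ![1/160, -11/560, -1/14, 3/35, 0],
    ![-1/128, -1/112, 1/28, -1/56, 0], ![-1/1280, 3/2240, -1/448, 3/1120, 0], ![1/1024, 0, 0, 0, 0]] 650
    (by decide +kernel) (by decide +kernel) (by decide +kernel) (by decide +kernel)

end chars

/-! ### Centralizers of involutions -/

section invol

open Subgroup Cfsg Cfsg.Agent.TitsK Cfsg.Agent.TitsK.Abs

/-- the centralizers of the involutions -/
theorem cent_abs {L : Type v} [Group L] [Finite L] (D : TData L) (h4 : Nat.card ↥D.V ≤ 4)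
    (hz : ∀ R : Subgroup L, R ≤ D.H → (∀ g ∈ R, g * D.z * g⁻¹ = D.z) → ∃ n, Nat.card ↥R ∣ 2 ^ n * 5)
    (a : ↥D.T) (ha : a * a = 1) (ha1 : a ≠ 1) : ∃ n, Nat.card (centralizer ({a} : Set ↥D.T)) ∣ 2 ^ n * 15 := by
  have key : ∀ t ∈ D.T, ∀ w : L, t * a * t⁻¹ = w → ∃ R : Subgroup L, R ≤ D.H ∧ (∀ g ∈ R, g * w * g⁻¹ = w) ∧
      Nat.card R = Nat.card (centralizer ({a} : Set ↥D.T)) := by
    intro t ht w hw
    refine ⟨((centralizer ({a} : Set ↥D.T)).map D.T.subtype).map (MulAut.conj t).toMonoidHom, ?_, ?_, ?_⟩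
    · rintro _ ⟨_, ⟨g, -, rfl⟩, rfl⟩
      exact D.T_le (D.T.mul_mem (D.T.mul_mem ht g.2) (D.T.inv_mem ht))
    · rintro _ ⟨_, ⟨g, hg, rfl⟩, rfl⟩
      have h1 : (g : L) * a = a * g := congrArg Subtype.val (mem_centralizer_singleton_iff.1 hg)
      show (t * g * t⁻¹) * w * (t * g * t⁻¹)⁻¹ = w
      rw [← hw]
      calc (t * (g : L) * t⁻¹) * (t * a * t⁻¹) * (t * g * t⁻¹)⁻¹ = t * (g * a) * (g : L)⁻¹ * t⁻¹ := by group
        _ = t * (a * g) * (g : L)⁻¹ * t⁻¹ := by rw [h1]
        _ = t * a * t⁻¹ := by group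
    · rw [card_map_of_injective (MulAut.conj t).injective, card_map_of_injective D.T.subtype_injective]
  rcases D.invol_cases a.2 (congrArg Subtype.val ha) (fun h => ha1 (Subtype.ext h)) with ⟨t, ht, h⟩ | ⟨t, ht, h⟩
  · obtain ⟨R, hR, hf, hc⟩ := key t ht _ h
    obtain ⟨n, hn⟩ := hz R hR hf
    exact ⟨n, by rw [← hc]; exact hn.trans (mul_dvd_mul_left _ (by norm_num))⟩
  · obtain ⟨R, hR, hf, hc⟩ := key t ht _ h
    obtain ⟨n, hn⟩ := H270.NS.Tits.card_d D h4 hR hf
    exact ⟨n, by rw [← hc]; exact hn.trans (mul_dvd_mul_left _ (by norm_num))⟩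

/-- the property -/
def CT (X : Type u) [Group X] : Prop :=
  ∀ t : X, t * t = 1 → t ≠ 1 → ∃ n, Nat.card (centralizer ({t} : Set X)) ∣ 2 ^ n * 15

theorem CT.congr {X : Type u} {Y : Type v} [Group X] [Group Y] (h : CT X) (e : X ≃* Y) : CT Y := by
  intro t ht ht1
  obtain ⟨n, hn⟩ := h (e.symm t) (by rw [← map_mul, ht, map_one]) fun h1 => ht1 (by
    rw [← e.apply_symm_apply t, h1, map_one])
  refine ⟨n, ?_⟩
  have h1 : Nat.card (centralizer ({e.symm t} : Set X)) = Nat.card (centralizer ({t} : Set Y)) := by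
    refine Nat.card_congr (Equiv.subtypeEquiv e.toEquiv fun g => ?_)
    rw [mem_centralizer_singleton_iff, mem_centralizer_singleton_iff]
    show g * e.symm t = e.symm t * g ↔ e g * t = t * e g
    rw [← e.injective.eq_iff (a := g * e.symm t), map_mul, map_mul, e.apply_symm_apply]
  rw [← h1]
  exact hn

end invol

section conc

open Cfsg.Agent.TitsK
open Cfsg.Agent.ChevalleyStructure.TwF4.Tables
open Cfsg.Agent.FourTwo.Base hiding bar bar_lt
open Cfsg.Agent.FourTwo.BN Cfsg.Agent.FourTwo.Comm Cfsg.Agent.FourTwo.Classes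

theorem ct_T : CT ↥tdata.T :=
  cent_abs tdata ((CentOdd.card_four (V := V4) fun _ => mem_V4_iff).2) (fun _ hR hz => H270.NS.Tits.card_z hR hz)

end conc

/-! ### The row -/

section main

open Subgroup Cfsg Cfsg.Agent.H892.EP Cfsg.Agent.H58.Rec Cfsg.Agent.H455.Isolated

variable {G : Type u} [Group G] [Finite G]

/-- the centralizer of a Sylow subgroup is a `p`-group -/
theorem pgroup_cent {p n a b : ℕ} [Fact p.Prime] (hct : CT G) (P : Sylow p G) (hn : 1 ≤ n)
    (hP : p ^ n ∣ Nat.card G) (h15 : ∀ m, ¬ p ^ n ∣ 2 ^ m * 15)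
    (hc : ∀ y : G, orderOf y = p → Nat.card (centralizer ({y} : Set G)) ∣ 2 ^ a * p ^ b) :
    ∀ x ∈ centralizer ((P : Subgroup G) : Set G), ∃ k : ℕ, x ^ p ^ k = 1 := by
  intro x hx
  have hp := (Fact.out : p.Prime)
  have h1 : p ^ n ∣ Nat.card (P : Subgroup G) := P.pow_dvd_card_of_pow_dvd_card hP
  obtain ⟨y, hy⟩ := exists_prime_orderOf_dvd_card' p ((dvd_pow_self p (by omega)).trans h1)
  have hxy : ∀ z ∈ (P : Subgroup G), z * x = x * z := fun z hz => mem_centralizer_iff.1 hx z hz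
  have h2 : orderOf x ∣ 2 ^ a * p ^ b := by
    refine (Subgroup.orderOf_dvd_natCard (centralizer ({(y : G)} : Set G)) ?_).trans
      (hc (y : G) (by rw [Subgroup.orderOf_coe, hy]))
    rw [mem_centralizer_singleton_iff]
    exact (hxy y y.2).symm
  by_cases h3 : 2 ∣ orderOf x
  · exfalso
    obtain ⟨k, hk⟩ := h3
    have hk0 : 0 < k := by
      rcases Nat.eq_zero_or_pos k with h | h
      · rw [h] at hk
        exact absurd hk (orderOf_pos x).ne'
      · exact h
    have ht : x ^ k * x ^ k = 1 := by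
      rw [← pow_add, ← two_mul, ← hk, pow_orderOf_eq_one]
    have ht1 : x ^ k ≠ 1 := by
      intro h
      have h4 := Nat.le_of_dvd hk0 (orderOf_dvd_of_pow_eq_one h)
      omega
    obtain ⟨m, hm⟩ := hct _ ht ht1
    have h4 : (P : Subgroup G) ≤ centralizer ({x ^ k} : Set G) := by
      intro z hz
      rw [mem_centralizer_singleton_iff]
      exact ((show Commute z x from hxy z hz).pow_right k).eq
    exact h15 m (h1.trans ((card_dvd_of_le h4).trans hm))
  · refine ⟨b, ?_⟩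
    rw [← orderOf_dvd_iff_pow_eq_one]
    refine Nat.Coprime.dvd_of_dvd_mul_left ?_ h2
    exact Nat.Coprime.pow_right a (((Nat.Prime.coprime_iff_not_dvd Nat.prime_two).2 h3).symm)

theorem not_dvd_of {q m k : ℕ} (hq : Nat.Coprime q 2) (hk : ¬ q ∣ k) : ¬ q ∣ 2 ^ m * k := fun h =>
  hk (Nat.Coprime.dvd_of_dvd_mul_left (Nat.Coprime.pow_right m hq) h)

/-- an element of order 13 is real -/
theorem exists_real {X : Type u} [Group X] [Finite X] (hc : Nat.card X = 17971200) (hf : HasFrob X 13 6) :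
    ∃ a : X, orderOf a = 13 ∧ IsConj a a⁻¹ := by
  obtain ⟨T, c, hT, hT1, hcT, ho, hfr⟩ := hf
  have hp : Fact (Nat.Prime 13) := ⟨by norm_num⟩
  have hT13 : Nat.card T = 13 := by
    obtain ⟨n, hn⟩ := IsPGroup.iff_card.1 hT
    have h1 := card_subgroup_dvd_card T
    rw [hn, hc] at h1
    have h2 : n < 2 := by
      by_contra h2
      have h3 : 13 ^ 2 ∣ 13 ^ n := pow_dvd_pow 13 (by omega)
      exact absurd (h3.trans h1) (by norm_num)
    rw [hn]
    interval_cases n
    · exact absurd (card_eq_one.1 (by rw [hn]; rfl)) hT1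
    · norm_num
  have hcyc : IsMulCommutative T := by
    have := isCyclic_of_prime_card hT13
    exact IsCyclic.isMulCommutative
  obtain ⟨a, ha, ha1⟩ : ∃ a ∈ T, a ≠ 1 := by
    by_contra hcon
    push Not at hcon
    exact hT1 ((Subgroup.eq_bot_iff_forall T).2 hcon)
  have hoa : orderOf a = 13 := by
    have h1 := orderOf_dvd_natCard (⟨a, ha⟩ : T)
    rw [orderOf_mk, hT13] at h1
    rcases (Nat.dvd_prime hp.out).1 h1 with h | h
    · exact absurd (orderOf_eq_one_iff.1 h) ha1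
    · exact h
  have hi2 : c ^ 3 * c ^ 3 = 1 := by
    rw [← pow_add, show 3 + 3 = 6 by norm_num, ← ho, pow_orderOf_eq_one]
  have hcn : c ^ 3 ∈ normalizer (T : Set X) := pow_mem hcT 3
  have hia : c ^ 3 * a * (c ^ 3)⁻¹ ∈ T := (mem_normalizer_iff.1 hcn a).1 ha
  have hcomm : ∀ p ∈ T, ∀ q ∈ T, p * q = q * p := by
    intro p hp q hq
    exact congrArg (fun t : T => (t : X)) (hcyc.is_comm.comm (⟨p, hp⟩ : T) ⟨q, hq⟩)
  have hinv : c ^ 3 * a * (c ^ 3)⁻¹ * a = 1 := by
    refine hfr 3 (by norm_num) (by norm_num) _ (mul_mem hia ha) ?_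
    have h1 : (c ^ 3)⁻¹ = c ^ 3 := inv_eq_of_mul_eq_one_right hi2
    calc c ^ 3 * a * (c ^ 3)⁻¹ * a * c ^ 3 = (c ^ 3 * a * (c ^ 3)⁻¹) * a * c ^ 3 := by group
      _ = a * (c ^ 3 * a * (c ^ 3)⁻¹) * c ^ 3 := by rw [hcomm _ hia a ha]
      _ = a * c ^ 3 * a := by group
      _ = (c ^ 3 * c ^ 3) * (a * c ^ 3 * a) := by rw [hi2, one_mul]
      _ = c ^ 3 * (c ^ 3 * a * c ^ 3 * a) := by group
      _ = c ^ 3 * (c ^ 3 * a * (c ^ 3)⁻¹ * a) := by rw [h1]
  exact ⟨a, hoa, isConj_iff.2 ⟨c ^ 3, mul_eq_one_iff_eq_inv.1 hinv⟩⟩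

/-- the primes of the order -/
theorem primes {p : ℕ} (hp : p.Prime) (hp2 : p ≠ 2) (hd : p ∣ 2 ^ 11 * 3 ^ 3 * 5 ^ 2 * 13) : p = 3 ∨ p = 5 ∨ p = 13 := by
  rcases hp.dvd_mul.1 hd with h | h
  · rcases hp.dvd_mul.1 h with h | h
    · rcases hp.dvd_mul.1 h with h | h
      · exact absurd ((Nat.prime_dvd_prime_iff_eq hp Nat.prime_two).1 (hp.dvd_of_dvd_pow h)) hp2
      · exact Or.inl ((Nat.prime_dvd_prime_iff_eq hp Nat.prime_three).1 (hp.dvd_of_dvd_pow h))
    · exact Or.inr (Or.inl ((Nat.prime_dvd_prime_iff_eq hp Nat.prime_five).1 (hp.dvd_of_dvd_pow h)))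
  · exact Or.inr (Or.inr ((Nat.prime_dvd_prime_iff_eq hp (by norm_num)).1 h))

/-- the row from the facts -/
theorem ev_of (hct : CT G) (hc : Nat.card G = 17971200) (h5 : ∀ y : G, orderOf y = 5 →
    Nat.card (centralizer ({y} : Set G)) = 50) (h3 : ∀ y : G, orderOf y = 3 →
    Nat.card (centralizer ({y} : Set G)) = 108) (hi : Isolated G 13)
    (h78 : ∃ χ : IrrCharacter G, charDegree (χ : G → ℂ) = 78)
    (h650 : ∃ χ : IrrCharacter G, charDegree (χ : G → ℂ) = 650) : Ev G := by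
  intro p hp hp2 hd
  rcases primes hp hp2 (hd.trans (by rw [hc]; norm_num)) with rfl | rfl | rfl
  · have : Fact (Nat.Prime 3) := ⟨hp⟩
    obtain ⟨χ, hχ⟩ := h650
    obtain ⟨P⟩ : Nonempty (Sylow 3 G) := inferInstance
    exact H142.EP.evAt_of_centralizer P (pgroup_cent hct P (n := 3) (a := 2) (b := 3) (by norm_num)
      (by rw [hc]; norm_num) (fun m => not_dvd_of (by norm_num) (by norm_num))
      fun y hy => by rw [h3 y hy]; norm_num) χ (by rw [hχ]; norm_num) (by rw [hχ]; norm_num)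
  · have : Fact (Nat.Prime 5) := ⟨hp⟩
    obtain ⟨χ, hχ⟩ := h78
    obtain ⟨P⟩ : Nonempty (Sylow 5 G) := inferInstance
    exact H142.EP.evAt_of_centralizer P (pgroup_cent hct P (n := 2) (a := 1) (b := 2) (by norm_num)
      (by rw [hc]; norm_num) (fun m => not_dvd_of (by norm_num) (by norm_num))
      fun y hy => by rw [h5 y hy]; norm_num) χ (by rw [hχ]; norm_num) (by rw [hχ]; norm_num)
  · have : Fact (Nat.Prime 13) := ⟨hp⟩
    obtain ⟨a, ha, hr⟩ := exists_real hc (hasFrob_of_isolated (N := 17971200) (e := 6) (by norm_num) hc hi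
      (by norm_num) (by norm_num) (by norm_num) (by decide +kernel))
    refine evAt_of_real_cyclic hp2 (fun P => ?_) ha hr
    have h1 : Nat.card (P : Subgroup G) = 13 := by
      have h2 : 13 ∣ Nat.card (P : Subgroup G) := P.dvd_card_of_dvd_card (by rw [hc]; norm_num)
      obtain ⟨n, hn⟩ := IsPGroup.iff_card.1 P.isPGroup'
      have h3 := card_subgroup_dvd_card (P : Subgroup G)
      rw [hn] at h2 h3 ⊢
      rw [hc] at h3
      have h4 : n < 2 := by
        by_contra h4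
        have h5 : 13 ^ 2 ∣ 13 ^ n := pow_dvd_pow 13 (by omega)
        exact absurd (h5.trans h3) (by norm_num)
      interval_cases n
      · norm_num at h2
      · norm_num
    exact isCyclic_of_prime_card h1

end main

end Cfsg.Agent.H855.EP.Tits

namespace Cfsg.Agent.H855.EP

open Subgroup Cfsg Cfsg.Agent.H892.EP

/-- **The Tits group** -/
theorem row_tits_of (hT : Nonempty (Lie.TitsGroup ≃* ↥Cfsg.Agent.SporadicB.RuTits.T)) :
    SpRow fun K => Lie.IsoTits K := by
  intro K _ _ _ hK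
  obtain ⟨f⟩ := hT
  obtain ⟨e⟩ := hK
  have hT' : Lie.IsoTits ↥Cfsg.Agent.SporadicB.RuTits.T := ⟨f.symm⟩
  have O := CpAutTits.Row.out hT'
  have hc : Nat.card ↥Cfsg.Agent.SporadicB.RuTits.T = 17971200 := O.card.trans (by norm_num)
  have F := H369.Ti.Facts.fs
  obtain ⟨g⟩ := Cfsg.Agent.TitsK.exists_equiv
  exact (Tits.ev_of (Tits.ct_T.congr (g.symm.trans f)) hc O.cent (fun y hy => H488.PBRow.TitsThree.card_cent_three hT' hy)
    (F.iso.of_injective f.symm.toMonoidHom f.symm.injective) Tits.deg_78 Tits.deg_650).tr (e.trans f).symm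

end Cfsg.Agent.H855.EP
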