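import Cfsg.Agent.H470.EPO.OwnBig
import Cfsg.Agent.H64.CrossChev
import Cfsg.Agent.H648.EPV.Exc

/-!
# S3499, assembly: socle of exceptional Lie type in dimension at least 13 (helper855, task 6287)

* `ExcOver L K` : the ten exceptional families over the field `K` (without the Tits group);
* `ExcLeft L K` : the families over a field with root groups of order two, and `Sz`, `²G₂`, `²F₄`;
* `left_of_big` : `Big A Γ S P`, `char F = char K`, `ExcOver (socle P) K` : `ExcLeft (socle P) K` (`own_big`, helper470);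
* `LeftKill` : the remaining own characteristic rows;
* `bigOf_exceptional_of` : `BigOf IsExceptionalLieType` from `LeftKill`; the cross characteristic and the Tits group are
  helper648's `H648/EPV/Exc`.
-/

set_option autoImplicit false

namespace Cfsg.Agent.H855.EP

open Subgroup Cfsg.Agent.H284 Cfsg.Agent.H419.EP Cfsg.Agent.H284.Pan

/-- The exceptional families over the field `K`, without the Tits group. -/
inductive ExcOver (L : Type) [Group L] (K : Type) [Field K] [Fintype K] : Prop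
  | g2 (h3 : 3 ≤ Fintype.card K) (e : Nonempty (L ≃* Cfsg.Lie.chevG2.group K)) : ExcOver L K
  | f4 (e : Nonempty (L ≃* Cfsg.Lie.chevF4.group K)) : ExcOver L K
  | e6 (e : Nonempty (L ≃* Cfsg.Lie.chevE6.group K)) : ExcOver L K
  | e7 (e : Nonempty (L ≃* Cfsg.Lie.chevE7.group K)) : ExcOver L K
  | e8 (e : Nonempty (L ≃* Cfsg.Lie.chevE8.group K)) : ExcOver L K
  | te6 (q : ℕ) (hq : IsPrimePow q) (hK : Fintype.card K = q ^ 2) (e : Nonempty (L ≃* Cfsg.Lie.twistedE6 K q)) :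
      ExcOver L K
  | td4 (q : ℕ) (hq : IsPrimePow q) (hK : Fintype.card K = q ^ 3) (e : Nonempty (L ≃* Cfsg.Lie.twistedD4 K q)) :
      ExcOver L K
  | sz (l : ℕ) (hl : 1 ≤ l) (hK : Fintype.card K = 2 ^ (2 * l + 1))
      (e : Nonempty (L ≃* Cfsg.Lie.Sz K (2 ^ (l + 1)))) : ExcOver L K
  | ree (l : ℕ) (hl : 1 ≤ l) (hK : Fintype.card K = 3 ^ (2 * l + 1))
      (e : Nonempty (L ≃* Cfsg.Lie.twistedG2 K (3 ^ l))) : ExcOver L K
  | tf4 (l : ℕ) (hl : 1 ≤ l) (hK : Fintype.card K = 2 ^ (2 * l + 1))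
      (e : Nonempty (L ≃* Cfsg.Lie.twistedF4 K (2 ^ l))) : ExcOver L K

/-- The families which are not covered by `own_big`. -/
inductive ExcLeft (L : Type) [Group L] (K : Type) [Field K] [Fintype K] : Prop
  | f4 (hK : Fintype.card K = 2) (e : Nonempty (L ≃* Cfsg.Lie.chevF4.group K)) : ExcLeft L K
  | e6 (hK : Fintype.card K = 2) (e : Nonempty (L ≃* Cfsg.Lie.chevE6.group K)) : ExcLeft L K
  | e7 (hK : Fintype.card K = 2) (e : Nonempty (L ≃* Cfsg.Lie.chevE7.group K)) : ExcLeft L K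
  | e8 (hK : Fintype.card K = 2) (e : Nonempty (L ≃* Cfsg.Lie.chevE8.group K)) : ExcLeft L K
  | te6 (hK : Fintype.card K = 2 ^ 2) (e : Nonempty (L ≃* Cfsg.Lie.twistedE6 K 2)) : ExcLeft L K
  | td4 (hK : Fintype.card K = 2 ^ 3) (e : Nonempty (L ≃* Cfsg.Lie.twistedD4 K 2)) : ExcLeft L K
  | sz (l : ℕ) (hl : 1 ≤ l) (hK : Fintype.card K = 2 ^ (2 * l + 1))
      (e : Nonempty (L ≃* Cfsg.Lie.Sz K (2 ^ (l + 1)))) : ExcLeft L K
  | ree (l : ℕ) (hl : 1 ≤ l) (hK : Fintype.card K = 3 ^ (2 * l + 1))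
      (e : Nonempty (L ≃* Cfsg.Lie.twistedG2 K (3 ^ l))) : ExcLeft L K
  | tf4 (l : ℕ) (hl : 1 ≤ l) (hK : Fintype.card K = 2 ^ (2 * l + 1))
      (e : Nonempty (L ≃* Cfsg.Lie.twistedF4 K (2 ^ l))) : ExcLeft L K

theorem ringChar_of_card {K : Type} [Field K] [Fintype K] {p k : ℕ} (hp : p.Prime) (hK : Fintype.card K = p ^ k) :
    ringChar K = p := by
  obtain ⟨n, hr, hn⟩ := FiniteField.card K (ringChar K)
  have h1 : ringChar K ∣ p ^ k := by
    rw [← hK, hn]
    exact dvd_pow_self _ n.pos.ne'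
  exact (Nat.prime_dvd_prime_iff_eq hr hp).1 (hr.dvd_of_dvd_pow h1)

/-- `H912.Five.ExcL r L` gives `ExcOver L K` with a field `K` of characteristic `r`. -/
theorem exists_over {r : ℕ} {L : Type} [Group L] (h : Cfsg.Agent.H912.Five.ExcL r L) :
    ∃ (K : Type) (_ : Field K) (_ : Fintype K), ringChar K = r ∧ ExcOver L K := by
  rcases h with ⟨K, f, i, hc, h⟩ | ⟨K, f, i, hc, q, hq, h⟩ | ⟨rfl, K, f, i, l, hl, hK, e⟩ |
    ⟨rfl, K, f, i, l, hl, hK, e⟩ | ⟨rfl, K, f, i, l, hl, hK, e⟩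
  · refine ⟨K, f, i, ringChar.eq K r ▸ rfl, ?_⟩
    rcases h with ⟨h3, e⟩ | e | e | e | e
    · exact ExcOver.g2 h3 e
    · exact ExcOver.f4 e
    · exact ExcOver.e6 e
    · exact ExcOver.e7 e
    · exact ExcOver.e8 e
  · refine ⟨K, f, i, ringChar.eq K r ▸ rfl, ?_⟩
    rcases h with ⟨hK, e⟩ | ⟨hK, e⟩
    · exact ExcOver.te6 q hq hK e
    · exact ExcOver.td4 q hq hK e
  · exact ⟨K, f, i, ringChar_of_card Nat.prime_two hK, ExcOver.sz l hl hK e⟩
  · exact ⟨K, f, i, ringChar_of_card Nat.prime_two hK, ExcOver.tf4 l hl hK e⟩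
  · exact ⟨K, f, i, ringChar_of_card Nat.prime_three hK, ExcOver.ree l hl hK e⟩

section

variable {Q : Type} [Group Q] [Finite Q] {A : Subgroup Q} {Γ : Subgroup (MulAut Q)} {ι : Type} [Fintype ι]
    [DecidableEq ι] {F : Type} [Field F] [Fintype F] {S P : Subgroup (GL ι F)}

/-- Own characteristic: all simple root groups of order at least three is impossible (`own_big`). -/
theorem left_of_big (b : Big A Γ S P) (K : Type) [Field K] [Fintype K] (hc : ringChar F = ringChar K)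
    (h : ExcOver (socle P) K) : ExcLeft (socle P) K := by
  have hch : CharP K (ringChar F) := by
    rw [hc]
    exact ringChar.charP K
  have key : ∀ {D : Cfsg.Lie.ChevalleyDatum} {l : ℕ} {M : CoxeterMatrix (Fin l)}, 2 ≤ l →
      Cfsg.Agent.Nodes.RGDChev.IsType D l M → socle P ≃* D.group K → Fintype.card K = 2 := by
    intro D l M hl ht e
    by_contra hne
    have h2 : 1 < Fintype.card K := Fintype.one_lt_card
    refine Cfsg.Agent.H470.EPO.own_big b hl e ((filtC_group ht K (ringChar F)).mono ?_)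
    rw [Nat.card_eq_fintype_card]
    omega
  rcases h with ⟨h3, ⟨e⟩⟩ | ⟨⟨e⟩⟩ | ⟨⟨e⟩⟩ | ⟨⟨e⟩⟩ | ⟨⟨e⟩⟩ | ⟨q, hq, hK, ⟨e⟩⟩ | ⟨q, hq, hK, ⟨e⟩⟩ | ⟨l, hl, hK, e⟩ |
    ⟨l, hl, hK, e⟩ | ⟨l, hl, hK, e⟩
  · have := key le_rfl Cfsg.Agent.H64.CrossChev.isType_G2 e
    omega
  · exact ExcLeft.f4 (key (by norm_num) Cfsg.Agent.H64.CrossChev.isType_F4 e) ⟨e⟩
  · exact ExcLeft.e6 (key (by norm_num) Cfsg.Agent.H64.CrossChev.isType_E6 e) ⟨e⟩
  · exact ExcLeft.e7 (key (by norm_num) Cfsg.Agent.H64.CrossChev.isType_E7 e) ⟨e⟩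
  · exact ExcLeft.e8 (key (by norm_num) Cfsg.Agent.H64.CrossChev.isType_E8 e) ⟨e⟩
  · rcases Nat.lt_or_ge q 3 with h3 | h3
    · have h2 := hq.one_lt
      obtain rfl : q = 2 := by omega
      exact ExcLeft.te6 hK ⟨e⟩
    · exact (Cfsg.Agent.H470.EPO.own_big b (by norm_num) e ((filtC_twE6 hq hK (ringChar F)).mono h3)).elim
  · rcases Nat.lt_or_ge q 3 with h3 | h3
    · have h2 := hq.one_lt
      obtain rfl : q = 2 := by omega
      exact ExcLeft.td4 hK ⟨e⟩
    · exact (Cfsg.Agent.H470.EPO.own_big b (by norm_num) e ((filtC_twD4 hq hK (ringChar F)).mono h3)).elim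
  · exact ExcLeft.sz l hl hK e
  · exact ExcLeft.ree l hl hK e
  · exact ExcLeft.tf4 l hl hK e

end

/-- The remaining rows: own characteristic, root groups of order two or one of the families `Sz`, `²G₂`, `²F₄`. -/
def LeftKill : Prop := ∀ {Q : Type} [Group Q] [Finite Q] {A : Subgroup Q}
    {Γ : Subgroup (MulAut Q)} {ι : Type} [Fintype ι] [DecidableEq ι] {F : Type} [Field F] [Fintype F]
    {S P : Subgroup (GL ι F)}, Big A Γ S P → ∀ (K : Type) [Field K] [Fintype K], ringChar F = ringChar K →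
    ExcLeft (socle P) K → False

/-- **The own characteristic part.** -/
theorem ownExc_of (own : LeftKill) : Cfsg.Agent.H648.EPV.OwnExc := by
  intro Q _ _ A Γ ι _ _ F _ _ S P b r hr hrF h
  obtain ⟨K, _, _, hK, h⟩ := exists_over h
  have hc : ringChar F = ringChar K := by
    rw [hK]
    exact (ringChar.eq_iff.2 ((CharP.charP_iff_prime_eq_zero hr).2 hrF)).symm ▸ rfl
  exact own b K hc (left_of_big b K hc h)

/-- **The part of `BigTarget` for the socles of exceptional Lie type.** -/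
theorem bigOf_exceptional_of (hg : Cfsg.Agent.H59.EP.TwoGen.{0}) (own : LeftKill) :
    BigOf (fun L _ => Cfsg.IsExceptionalLieType L) :=
  Cfsg.Agent.H648.EPV.exc_of_own hg (ownExc_of own)

end Cfsg.Agent.H855.EP
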