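import Cfsg.Agent.H855.EP.LeftExc
import Cfsg.Agent.H270.EPU.OwnTwF

/-!
# S3499, assembly: `BigTarget` for the socles of exceptional Lie type, final (helper855, task 6287)

* `twFKill` : the row `²F₄(q)` in its own characteristic (helper270);
* `leftKill` : `LeftKill`; `bigOf_exceptional` : `BigOf IsExceptionalLieType` (no hypothesis except `TwoGen`).
-/

set_option autoImplicit false

namespace Cfsg.Agent.H855.EP

open Subgroup Cfsg.Agent.H284 Cfsg.Agent.H419.EP

/-- the row `²F₄(q)` -/
theorem twFKill (hg : Cfsg.Agent.H59.EP.TwoGen.{0}) : TwFKill := by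
  intro Q _ _ A Γ ι _ _ F _ _ S P b hc h
  exact Cfsg.Agent.H270.EPU.own_twF4 b hg hc h

/-- **The remaining own characteristic rows.** -/
theorem leftKill (hg : Cfsg.Agent.H59.EP.TwoGen.{0}) : LeftKill := leftKill_of hg (twFKill hg)

/-- **The part of `BigTarget` for the socles of exceptional Lie type.** -/
theorem bigOf_exceptional (hg : Cfsg.Agent.H59.EP.TwoGen.{0}) : BigOf (fun L _ => Cfsg.IsExceptionalLieType L) :=
  bigOf_exceptional_of hg (leftKill hg)

end Cfsg.Agent.H855.EP
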