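import Cfsg.Agent.H855.EP.AsmExc
import Cfsg.Agent.H241.Own.ExcTwo
import Cfsg.Agent.H241.Own.ExcTwoB
import Cfsg.Agent.H241.Own.ExcTwoC
import Cfsg.Agent.H752.EP.Ree
import Cfsg.Agent.H752.EP.Sz

/-!
# S3499, assembly: the remaining own characteristic rows of exceptional Lie type (helper855, task 6287)

* `TwFKill` : `Big A Γ S P`, `char F = 2`, `socle P ≅ ²F₄(q)`, `q ≥ 8`: impossible (helper564);
* `leftKill_of` : `LeftKill` from `TwFKill` (over the field with two elements: helper241; `Sz`, `²G₂`: helper752);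
* `bigOf_exceptional_of_twF` : `BigOf IsExceptionalLieType` from `TwFKill`.
-/

set_option autoImplicit false

namespace Cfsg.Agent.H855.EP

open Subgroup Cfsg.Agent.H284 Cfsg.Agent.H419.EP

/-- the row `²F₄(q)` -/
def TwFKill : Prop := ∀ {Q : Type} [Group Q] [Finite Q] {A : Subgroup Q}
    {Γ : Subgroup (MulAut Q)} {ι : Type} [Fintype ι] [DecidableEq ι] {F : Type} [Field F] [Fintype F]
    {S P : Subgroup (GL ι F)}, Big A Γ S P → ringChar F = 2 → Cfsg.Lie.Iso2F4 (socle P) → False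

/-- **The remaining own characteristic rows.** -/
theorem leftKill_of (hg : Cfsg.Agent.H59.EP.TwoGen.{0}) (tf : TwFKill) : LeftKill := by
  intro Q _ _ A Γ ι _ _ F _ _ S P b K _ _ hc h
  rcases h with ⟨hK, e⟩ | ⟨hK, e⟩ | ⟨hK, e⟩ | ⟨hK, e⟩ | ⟨hK, e⟩ | ⟨hK, e⟩ | ⟨l, hl, hK, e⟩ | ⟨l, hl, hK, e⟩ |
    ⟨l, hl, hK, e⟩
  · exact Cfsg.Agent.H241.Own.two_f4 b hg hK hc e
  · exact Cfsg.Agent.H241.Own.two_e6 b hg hK hc e
  · exact Cfsg.Agent.H241.Own.two_e7 b hg hK hc e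
  · exact Cfsg.Agent.H241.Own.two_e8 b hg hK hc e
  · exact Cfsg.Agent.H241.Own.two_2e6 b hg hK hc e
  · exact Cfsg.Agent.H241.Own.two_3d4 b hg hK hc e
  · exact Cfsg.Agent.H752.EP.own_sz b hg (hc.trans (ringChar_of_card Nat.prime_two hK)) ⟨K, _, _, l, hl, hK, e⟩
  · exact Cfsg.Agent.H752.EP.own_ree b hg (hc.trans (ringChar_of_card Nat.prime_three hK)) ⟨K, _, _, l, hl, hK, e⟩
  · exact tf b (hc.trans (ringChar_of_card Nat.prime_two hK)) ⟨K, _, _, l, hl, hK, e⟩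

/-- **The part of `BigTarget` for the socles of exceptional Lie type.** -/
theorem bigOf_exceptional_of_twF (hg : Cfsg.Agent.H59.EP.TwoGen.{0}) (tf : TwFKill) :
    BigOf (fun L _ => Cfsg.IsExceptionalLieType L) :=
  bigOf_exceptional_of hg (leftKill_of hg tf)

end Cfsg.Agent.H855.EP
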