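import Cfsg.Agent.H243.EP.OwnExc
import Cfsg.Agent.H987.EP.OwnPSL

/-!
# S3499, own characteristic, `F₄`, `E₆`, `E₇`, `E₈`, `²E₆` with the bound `|Q| ≤ |A| ^ 5` (helper855)

* `index_E7` : `38 ≤ |W(E₇) : W_J|`; `index_E6_mid`, `index_E6_two` : `30 ≤ |W(E₆) : W_J|` if `J` misses a node which is
  not an end of the long arm, or both ends;
* `exists_J_sd` : `exists_J` of `H2/Ppd/Main` for a core which fixes a nondegenerate (sesquilinear) form: `J` is invariant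
  under the opposition involution (`H987/EP/SelfDual`);
* `own_f4_five`, `own_e6_five`, `own_e7_five`, `own_e8_five`, `own_2e6_five` : `Big A Γ S P`, `|Q| ≤ |A| ^ 5`,
  `socle P ≅ X(K)`, `char F = char K` : `False` (helper243's `OwnExc` has the exponent 4).
-/

set_option autoImplicit false
set_option linter.unusedSectionVars false
set_option linter.style.haveILetI false
set_option linter.style.longLine false

namespace Cfsg.Agent.H855.EP.Sd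

open Matrix CoxeterSystem Cfsg.Agent.ChevalleyStructure.CoxeterGeom Cfsg.Agent.Tits.Roots Cfsg.Agent.Tits.Core
  Cfsg.Agent.Tits.Exchange Cfsg.Agent.Nodes.Reps Cfsg.Agent.Nodes.BNOf Cfsg.Agent.Nodes.StabComb
  Cfsg.Agent.Nodes.Bruhat Cfsg.Agent.Nodes.OppDec Cfsg.Agent.Nodes.LeviDec Cfsg.Agent.KFacts.RgdOpp
  Cfsg.Agent.Omega.CR Cfsg.Agent.Omega.FOne.Lift.Sd Cfsg.Agent.H905.Md Cfsg.Agent.H911 Cfsg.Agent.H51.Mult
open Cfsg.Agent.H875.Fn Cfsg.Agent.H392.TD Cfsg.Agent.H905.DC Cfsg.Agent.H915.LD Cfsg.Agent.H218.SdLift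
open Cfsg.Agent.Nodes.RGDLift Cfsg.Agent.Nodes.RGDLib Cfsg.Agent.KFacts.MulOdd.Inst Cfsg.Agent.KFacts.MulOdd.Shrink
open Cfsg.Agent.H64.CrossChev (Nd nd isType_E6 isType_E7 parity_E7)
open Cfsg.Agent.KFacts.MulOdd.InstChev
open Cfsg.Agent.H2.Ppd Cfsg.Agent.H419.EP Cfsg.Agent.H987.EP
open Cfsg Cfsg.Geo
open scoped MatrixGroups

universe u v w

/-! ### indices -/

set_option maxHeartbeats 1000000 in
theorem index_E7 {W : Type*} [Group W] [Finite W] (cs : CoxeterSystem CoxeterMatrix.E₇ W) {J : Set (Fin 7)} {i : Fin 7}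
    (hi : i ∉ J) : 38 ≤ (WJ cs J).index := by
  fin_cases i
  · exact index_ge cs isCartan_cE7 hi [![1, 1, 0, -1, 1, -1, 0], ![1, -1, 0, 0, 0, 1, -1], ![-1, 0, 0, 1, 0, -1, 0], ![-1, 1, 1, -1, 0, 1, -1], ![0, 1, -1, 0, 0, 0, 1], ![-1, -1, 1, 0, 0, 0, 1], ![1, 0, -1, 1, 0, -1, 0], ![1, 1, 0, -1, 0, 1, -1], ![1, -1, 0, 0, 0, 0, 1], ![-1, 0, 0, 1, -1, 1, -1], ![-1, 1, 1, -1, 0, 0, 1], ![0, 0, 1, 0, 0, -1, 0], ![1, 0, -1, 1, -1, 1, -1], ![1, 1, 0, -1, 0, 0, 1], ![-1, 0, 0, 0, 1, 0, -1], ![-1, 0, 0, 1, -1, 0, 1], ![0, 0, 1, 0, -1, 1, -1], ![1, 0, -1, 0, 1, 0, -1], ![1, 0, -1, 1, -1, 0, 1], ![-1, 0, 0, 0, 1, -1, 1], ![0, 0, 1, -1, 1, 0, -1], ![0, 0, 1, 0, -1, 0, 1], ![1, 0, -1, 0, 1, -1, 1], ![-1, 0, 0, 0, 0, 1, 0], ![0, -1, 0, 1, 0, 0, -1], ![0, 0, 1, -1, 1, -1, 1], ![1, 0, -1, 0, 0, 1, 0], ![0, 1, 0, 0, 0, 0, -1], ![0, -1, 0, 1, 0, -1, 1], ![0,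 0, 1, -1, 0, 1, 0], ![0, 1, 0, 0, 0, -1, 1], ![0, -1, 0, 1, -1, 1, 0], ![0, 1, 0, 0, -1, 1, 0], ![0, -1, 0, 0, 1, 0, 0], ![0, 1, 0, -1, 1, 0, 0], ![0, 0, -1, 1, 0, 0, 0], ![-1, 0, 1, 0, 0, 0, 0], ![1, 0, 0, 0, 0, 0, 0]] (by decide +kernel)
  · exact index_ge cs isCartan_cE7 hi [![0, 1, -1, 0, 1, 0, -1], ![0, 1, -1, 1, -1, 0, 1], ![-1, -1, 1, 0, 1, 0, -1], ![-1, -1, 1, 1, -1, 0, 1], ![0, -1, -1, 1, 1, -1, 1], ![0, 0, 0, -1, 1, 1, 0], ![1, 1, 0, 0, -1, 1, -1], ![1, -1, 0, 0, 1, 0, -1], ![1, -1, 0, 1, -1, 0, 1], ![-1, 1, 1, -1, 1, 0, -1], ![-1, 1, 1, 0, -1, 0, 1], ![0, 1, -1, 0, 1, -1, 1], ![-1, -1, 1, 0, 1, -1, 1], ![0, -1, -1, 1, 0, 1, 0], ![1, 1, 0, -1, 1, 0, -1], ![1, 1, 0, 0, -1, 0, 1], ![1, -1, 0, 0, 1, -1, 1], ![-1, 0, 0, 1, 0, 0, -1], ![-1, 1, 1, -1, 1, -1, 1], ![0, 1, -1, 0, 0, 1, 0], ![-1, -1, 1, 0, 0, 1, 0], ![1, 0, -1, 1, 0, 0, -1],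 ![1, 1, 0, -1, 1, -1, 1], ![1, -1, 0, 0, 0, 1, 0], ![-1, 0, 0, 1, 0, -1, 1], ![-1, 1, 1, -1, 0, 1, 0], ![0, 0, 1, 0, 0, 0, -1], ![1, 0, -1, 1, 0, -1, 1], ![1, 1, 0, -1, 0, 1, 0], ![-1, 0, 0, 1, -1, 1, 0], ![0, 0, 1, 0, 0, -1, 1], ![1, 0, -1, 1, -1, 1, 0], ![-1, 0, 0, 0, 1, 0, 0], ![0, 0, 1, 0, -1, 1, 0], ![1, 0, -1, 0, 1, 0, 0], ![0, 0, 1, -1, 1, 0, 0], ![0, -1, 0, 1, 0, 0, 0], ![0, 1, 0, 0, 0, 0, 0]] (by decide +kernel)
  · exact index_ge cs isCartan_cE7 hi [![0, 1, -1, 1, 0, 0, -1], ![0, 2, 0, -1, 1, -1, 1], ![0, -2, 0, 1, 0, 1, 0], ![-1, -1, 1, 1, 0, 0, -1], ![-1, 0, 2, -1, 1, -1, 1], ![1, 0, -2, 1, 0, 1, 0], ![0, -1, -1, 2, 0, -1, 1], ![0, 1, 1, -2, 1, 1, 0], ![0, 0, 0, 1, -2, 2, 0], ![1, -1, 0, 1, 0, 0, -1], ![1, 0, 1, -1, 1, -1, 1], ![2, 0, -1, 0, 0, 1, 0], ![-1, 1, 1, 0, 0, 0, -1], ![0, 1, -1, 1, 0, -1, 1], ![0, 2, 0, -1, 0, 1, 0], ![-1,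 -1, 1, 1, 0, -1, 1], ![-1, 0, 2, -1, 0, 1, 0], ![0, -1, -1, 2, -1, 1, 0], ![0, 0, 0, -1, 2, 0, 0], ![1, 1, 0, 0, 0, 0, -1], ![1, -1, 0, 1, 0, -1, 1], ![1, 0, 1, -1, 0, 1, 0], ![-1, 1, 1, 0, 0, -1, 1], ![0, 1, -1, 1, -1, 1, 0], ![-1, -1, 1, 1, -1, 1, 0], ![0, -1, -1, 1, 1, 0, 0], ![1, 1, 0, 0, 0, -1, 1], ![1, -1, 0, 1, -1, 1, 0], ![-1, 1, 1, 0, -1, 1, 0], ![0, 1, -1, 0, 1, 0, 0], ![-1, -1, 1, 0, 1, 0, 0], ![1, 1, 0, 0, -1, 1, 0], ![1, -1, 0, 0, 1, 0, 0], ![-1, 1, 1, -1, 1, 0, 0], ![1, 1, 0, -1, 1, 0, 0], ![-1, 0, 0, 1, 0, 0, 0], ![1, 0, -1, 1, 0, 0, 0], ![0, 0, 1, 0, 0, 0, 0]] (by decide +kernel)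
  · exact index_ge cs isCartan_cE7 hi [![1, 0, 0, 1, 0, -2, 2], ![1, 1, 1, -1, -1, 2, 0], ![-1, -1, 0, 2, 0, -1, 1], ![-1, 1, 2, -2, 1, 1, 0], ![-1, 0, 1, 1, -2, 2, 0], ![0, 0, -1, 0, 2, 0, 0], ![1, 1, -1, 1, 0, 0, -1], ![1, 2, 0, -1, 1, -1, 1], ![1, -2, 0, 1, 0, 1, 0], ![-1, 1, 0, 1, 0, -1, 1], ![-1, 2, 1, -1, 0, 1, 0], ![0, -1, 1, 1, 0, 0, -1], ![0, 0, 2, -1, 1, -1, 1], ![2, 0, -2, 1, 0, 1, 0], ![1, -1, -1, 2, 0, -1, 1], ![1, 1, 1, -2, 1, 1, 0], ![1, 0, 0, 1, -2, 2, 0], ![-1, -1, 0, 2, -1, 1, 0], ![-1, 0, 1, -1, 2, 0, 0], ![0, 1, 1, 0, 0, 0, -1], ![1, 1, -1, 1, 0, -1, 1], ![1, 2, 0, -1, 0, 1, 0], ![-1, 1, 0, 1, -1, 1, 0], ![0, -1, 1, 1, 0, -1, 1], ![0, 0, 2, -1, 0, 1, 0], ![1, -1, -1, 2, -1, 1, 0], ![1, 0, 0, -1, 2, 0, 0], ![-1, -1, 0, 1, 1, 0, 0], ![0, 1, 1, 0, 0, -1, 1], ![1, 1, -1, 1, -1, 1, 0], ![-1, 1, 0, 0, 1, 0, 0], ![0, -1, 1, 1, -1,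 1, 0], ![1, -1, -1, 1, 1, 0, 0], ![0, 1, 1, 0, -1, 1, 0], ![1, 1, -1, 0, 1, 0, 0], ![0, -1, 1, 0, 1, 0, 0], ![0, 1, 1, -1, 1, 0, 0], ![0, 0, 0, 1, 0, 0, 0]] (by decide +kernel)
  · exact index_ge cs isCartan_cE7 hi [![-1, 0, 1, 0, -1, 2, 0], ![0, 0, -1, 0, 1, 1, 0], ![0, 1, 1, 0, 0, -1, 0], ![1, 1, -1, 1, -1, 1, -1], ![1, 2, 0, -1, 0, 0, 1], ![-1, 1, 0, 0, 1, 0, -1], ![-1, 1, 0, 1, -1, 0, 1], ![0, -1, 1, 1, -1, 1, -1], ![0, 0, 2, -1, 0, 0, 1], ![1, -1, -1, 1, 1, 0, -1], ![1, -1, -1, 2, -1, 0, 1], ![1, 0, 0, -1, 2, -1, 1], ![1, 0, 0, 0, -1, 2, 0], ![-1, -1, 0, 1, 1, -1, 1], ![-1, 0, 1, -1, 1, 1, 0], ![0, 1, 1, 0, -1, 1, -1], ![1, 1, -1, 0, 1, 0, -1], ![1, 1, -1, 1, -1, 0, 1], ![-1, 1, 0, 0, 1, -1, 1], ![0, -1, 1, 0, 1, 0, -1], ![0, -1, 1, 1, -1, 0, 1], ![1, -1, -1, 1, 1, -1, 1], ![1, 0, 0, -1, 1, 1, 0], ![-1, -1, 0, 1, 0, 1, 0], ![0, 1, 1, -1,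 1, 0, -1], ![0, 1, 1, 0, -1, 0, 1], ![1, 1, -1, 0, 1, -1, 1], ![-1, 1, 0, 0, 0, 1, 0], ![0, -1, 1, 0, 1, -1, 1], ![1, -1, -1, 1, 0, 1, 0], ![0, 0, 0, 1, 0, 0, -1], ![0, 1, 1, -1, 1, -1, 1], ![1, 1, -1, 0, 0, 1, 0], ![0, -1, 1, 0, 0, 1, 0], ![0, 0, 0, 1, 0, -1, 1], ![0, 1, 1, -1, 0, 1, 0], ![0, 0, 0, 1, -1, 1, 0], ![0, 0, 0, 0, 1, 0, 0]] (by decide +kernel)
  · exact index_ge cs isCartan_cE7 hi [![1, -1, -1, 2, -1, 0, 0], ![1, 0, 0, -1, 2, -1, 0], ![1, 0, 0, 0, -1, 2, -1], ![1, 0, 0, 0, 0, -1, 2], ![-1, -1, 0, 1, 1, -1, 0], ![-1, 0, 1, -1, 1, 1, -1], ![-1, 0, 1, 0, -1, 1, 1], ![0, 0, -1, 0, 1, 0, 1], ![1, 1, -1, 1, -1, 0, 0], ![-1, 1, 0, 0, 1, -1, 0], ![0, -1, 1, 1, -1, 0, 0], ![1, -1, -1, 1, 1, -1, 0], ![1, 0, 0, -1, 1, 1, -1], ![1, 0, 0, 0, -1, 1, 1], ![-1, -1, 0, 1, 0, 1, -1], ![-1, 0, 1, -1, 1, 0, 1], ![0, 1, 1, 0, -1, 0, 0], ![1, 1, -1,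 0, 1, -1, 0], ![-1, 1, 0, 0, 0, 1, -1], ![0, -1, 1, 0, 1, -1, 0], ![1, -1, -1, 1, 0, 1, -1], ![1, 0, 0, -1, 1, 0, 1], ![-1, -1, 0, 1, 0, 0, 1], ![0, 1, 1, -1, 1, -1, 0], ![1, 1, -1, 0, 0, 1, -1], ![-1, 1, 0, 0, 0, 0, 1], ![0, -1, 1, 0, 0, 1, -1], ![1, -1, -1, 1, 0, 0, 1], ![0, 0, 0, 1, 0, -1, 0], ![0, 1, 1, -1, 0, 1, -1], ![1, 1, -1, 0, 0, 0, 1], ![0, -1, 1, 0, 0, 0, 1], ![0, 0, 0, 1, -1, 1, -1], ![0, 1, 1, -1, 0, 0, 1], ![0, 0, 0, 0, 1, 0, -1], ![0, 0, 0, 1, -1, 0, 1], ![0, 0, 0, 0, 1, -1, 1], ![0, 0, 0, 0, 0, 1, 0]] (by decide +kernel)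
  · exact index_ge cs isCartan_cE7 hi [![-1, 0, 0, 0, 0, 0, 1], ![0, -1, 0, 1, 0, -1, 0], ![0, 0, 1, -1, 0, 1, -1], ![1, 0, -1, 0, 0, 0, 1], ![0, 1, 0, 0, 0, -1, 0], ![0, -1, 0, 1, -1, 1, -1], ![0, 0, 1, -1, 0, 0, 1], ![0, 1, 0, 0, -1, 1, -1], ![0, -1, 0, 0, 1, 0, -1], ![0, -1, 0, 1, -1, 0, 1], ![0, 1, 0, -1, 1, 0, -1], ![0, 1, 0, 0, -1, 0, 1], ![0, -1, 0, 0, 1, -1, 1], ![0, 0, -1, 1, 0, 0, -1], ![0, 1, 0, -1, 1, -1, 1], ![0, -1, 0, 0, 0, 1, 0], ![-1, 0, 1, 0, 0, 0, -1], ![0, 0, -1, 1, 0, -1, 1], ![0, 1, 0, -1, 0, 1, 0], ![1, 0, 0, 0, 0, 0, -1], ![-1, 0, 1, 0, 0, -1, 1], ![0, 0, -1, 1, -1, 1, 0], ![1, 0, 0, 0, 0, -1, 1], ![-1, 0, 1, 0, -1, 1, 0], ![0, 0, -1, 0, 1, 0, 0], ![1, 0, 0, 0, -1, 1, 0], ![-1, 0, 1, -1, 1, 0, 0], ![1, 0, 0, -1, 1, 0, 0], ![-1, -1, 0, 1, 0, 0, 0], ![-1, 1, 0, 0, 0, 0, 0], ![1, -1, -1, 1, 0, 0, 0], ![1, 1, -1, 0, 0, 0,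 0], ![0, -1, 1, 0, 0, 0, 0], ![0, 1, 1, -1, 0, 0, 0], ![0, 0, 0, 1, -1, 0, 0], ![0, 0, 0, 0, 1, -1, 0], ![0, 0, 0, 0, 0, 1, -1], ![0, 0, 0, 0, 0, 0, 1]] (by decide +kernel)

set_option maxHeartbeats 1000000 in
theorem index_E6_mid {W : Type*} [Group W] [Finite W] (cs : CoxeterSystem CoxeterMatrix.E₆ W) {J : Set (Fin 6)} {i : Fin 6}
    (hi : i ∉ J) (h0 : i ≠ 0) (h5 : i ≠ 5) : 30 ≤ (WJ cs J).index := by
  fin_cases i
  · exact absurd rfl h0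
  · exact index_ge cs isCartan_cE6 hi [![1, 0, 1, -1, 0, 0], ![0, 1, -1, 1, -1, 0], ![-1, -1, 1, 1, -1, 0], ![0, -1, -1, 1, 1, -1], ![0, 0, 0, -1, 1, 1], ![1, -1, 0, 1, -1, 0], ![-1, 1, 1, 0, -1, 0], ![0, 1, -1, 0, 1, -1], ![-1, -1, 1, 0, 1, -1], ![0, -1, -1, 1, 0, 1], ![1, 1, 0, 0, -1, 0], ![1, -1, 0, 0, 1, -1], ![-1, 1, 1, -1, 1, -1], ![0, 1, -1, 0, 0, 1], ![-1, -1, 1, 0, 0, 1], ![1, 1, 0, -1, 1, -1], ![1, -1, 0, 0, 0, 1], ![-1, 0, 0, 1, 0, -1], ![-1, 1, 1, -1, 0, 1], ![1, 0, -1, 1, 0, -1], ![1, 1, 0, -1, 0, 1], ![-1, 0, 0, 1, -1, 1], ![0, 0, 1, 0, 0, -1], ![1, 0, -1, 1, -1, 1], ![-1, 0, 0, 0, 1, 0], ![0, 0, 1, 0, -1, 1], ![1, 0, -1, 0, 1, 0], ![0, 0, 1, -1, 1, 0], ![0, -1, 0, 1, 0, 0], ![0, 1, 0, 0, 0, 0]] (by decide +kernel)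
  · exact index_ge cs isCartan_cE6 hi [![1, 0, -2, 1, 0, 1], ![0, -1, -1, 2, 0, -1], ![0, 1, 1, -2, 1, 1], ![0, 0, 0, 1, -2, 2], ![1, 0, 1, -1, 1, -1], ![2, 0, -1, 0, 0, 1], ![0, 1, -1, 1, 0, -1], ![0, 2, 0, -1, 0, 1], ![-1, -1, 1, 1, 0, -1], ![-1, 0, 2, -1, 0, 1], ![0, -1, -1, 2, -1, 1], ![0, 0, 0, -1, 2, 0], ![1, -1, 0, 1, 0, -1], ![1, 0, 1, -1, 0, 1], ![-1, 1, 1, 0, 0, -1], ![0, 1, -1, 1, -1, 1], ![-1, -1, 1, 1, -1, 1], ![0, -1, -1, 1, 1, 0], ![1, 1, 0, 0, 0, -1], ![1, -1, 0, 1, -1, 1], ![-1, 1, 1, 0, -1, 1], ![0, 1, -1, 0, 1, 0], ![-1, -1, 1, 0, 1, 0], ![1, 1, 0, 0, -1, 1], ![1, -1, 0, 0, 1, 0], ![-1, 1, 1, -1, 1, 0], ![1, 1, 0, -1, 1, 0], ![-1, 0, 0, 1, 0, 0], ![1, 0, -1, 1, 0, 0], ![0, 0, 1, 0, 0, 0]] (by decide +kernel)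
  · exact index_ge cs isCartan_cE6 hi [![0, 0, -1, 0, 2, 0], ![1, 2, 0, -1, 1, -1], ![1, -2, 0, 1, 0, 1], ![-1, 1, 0, 1, 0, -1], ![-1, 2, 1, -1, 0, 1], ![0, 0, 2, -1, 1, -1], ![2, 0, -2, 1, 0, 1], ![1, -1, -1, 2, 0, -1], ![1, 1, 1, -2, 1, 1], ![1, 0, 0, 1, -2, 2], ![-1, -1, 0, 2, -1, 1], ![-1, 0, 1, -1, 2, 0], ![1, 1, -1, 1, 0, -1], ![1, 2, 0, -1, 0, 1], ![-1, 1, 0, 1, -1, 1], ![0, -1, 1, 1, 0, -1], ![0, 0, 2, -1, 0, 1], ![1, -1, -1, 2, -1, 1], ![1, 0, 0, -1, 2, 0], ![-1, -1, 0, 1, 1, 0], ![0, 1, 1, 0, 0, -1], ![1, 1, -1, 1, -1, 1], ![-1, 1, 0, 0, 1, 0], ![0, -1, 1, 1, -1, 1], ![1, -1, -1, 1, 1, 0], ![0, 1, 1, 0, -1, 1], ![1, 1, -1, 0, 1, 0], ![0, -1, 1, 0, 1, 0], ![0, 1, 1, -1, 1, 0], ![0, 0, 0, 1, 0, 0]] (by decide +kernel)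
  · exact index_ge cs isCartan_cE6 hi [![-1, -1, 0, 2, -1, 0], ![-1, 0, 1, -1, 2, -1], ![-1, 0, 1, 0, -1, 2], ![0, 0, -1, 0, 1, 1], ![1, 2, 0, -1, 0, 0], ![-1, 1, 0, 1, -1, 0], ![0, 0, 2, -1, 0, 0], ![1, -1, -1, 2, -1, 0], ![1, 0, 0, -1, 2, -1], ![1, 0, 0, 0, -1, 2], ![-1, -1, 0, 1, 1, -1], ![-1, 0, 1, -1, 1, 1], ![1, 1, -1, 1, -1, 0], ![-1, 1, 0, 0, 1, -1], ![0, -1, 1, 1, -1, 0], ![1, -1, -1, 1, 1, -1], ![1, 0, 0, -1, 1, 1], ![-1, -1, 0, 1, 0, 1], ![0, 1, 1, 0, -1, 0], ![1, 1, -1, 0, 1, -1], ![-1, 1, 0, 0, 0, 1], ![0, -1, 1, 0, 1, -1], ![1, -1, -1, 1, 0, 1], ![0, 1, 1, -1, 1, -1], ![1, 1, -1, 0, 0, 1], ![0, -1, 1, 0, 0, 1], ![0, 0, 0, 1, 0, -1], ![0, 1, 1, -1, 0, 1], ![0, 0, 0, 1, -1, 1], ![0, 0, 0, 0, 1, 0]] (by decide +kernel)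
  · exact absurd rfl h5


section two

variable {l : ℕ} {W : Type*} [Group W] {M : CoxeterMatrix (Fin l)} (cs : CoxeterSystem M W)
  {A : Fin l → Fin l → ℤ} (h : IsCartan M A)

theorem fire_add (c d : Fin l → ℤ) (j : Fin l) : fire A (fun m => c m + d m) j = fun m => fire A c j m + fire A d j m := by
  funext m
  unfold fire
  ring

theorem exists_of_chn_two {i k : Fin l} {L : List (Fin l → ℤ)}
    (hL : chn A (fun m => (Pi.single i 1 : Fin l → ℤ) m + (Pi.single k 1 : Fin l → ℤ) m) L = true) :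
    (∀ v ∈ L, ∃ w, (fun m => co cs h i w m + co cs h k w m) = v) ∧ L.Nodup := by
  induction L with
  | nil => exact ⟨fun v hv => absurd hv List.not_mem_nil, List.nodup_nil⟩
  | cons v L ih =>
    unfold chn at hL
    rw [Bool.and_eq_true, Bool.and_eq_true, Bool.or_eq_true] at hL
    obtain ⟨⟨h1, h2⟩, h3⟩ := hL
    obtain ⟨h4, h5⟩ := ih h3
    refine ⟨fun u hu => ?_, ?_⟩
    · rcases List.mem_cons.1 hu with rfl | hu
      · rcases h1 with h1 | h1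
        · refine ⟨1, ?_⟩
          rw [co_one, co_one, eqv_iff.1 h1]
          rfl
        · obtain ⟨u', hu', h6⟩ := List.any_eq_true.1 h1
          obtain ⟨j, -, h7⟩ := List.any_eq_true.1 h6
          obtain ⟨w, hw⟩ := h4 u' hu'
          exact ⟨w * cs.simple j, by rw [co_mul_simple, co_mul_simple, ← fire_add, hw, eqv_iff.1 h7]⟩
      · exact h4 u hu
    · rw [List.nodup_cons]
      refine ⟨fun hv => ?_, h5⟩
      have h6 := List.all_eq_true.1 h2 v hv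
      have h7 : eqv v v = true := eqv_iff.2 rfl
      rw [h7] at h6
      exact absurd h6 (by decide)

include h in
/-- **the index**, two nodes -/
theorem index_ge_two [Finite W] {J : Set (Fin l)} {i k : Fin l} (hi : i ∉ J) (hk : k ∉ J) (L : List (Fin l → ℤ))
    (hL : chn A (fun m => (Pi.single i 1 : Fin l → ℤ) m + (Pi.single k 1 : Fin l → ℤ) m) L = true) :
    L.length ≤ (WJ cs J).index := by
  obtain ⟨h1, h2⟩ := exists_of_chn_two cs h hL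
  choose w hw using fun k : Fin L.length => h1 (L.get k) (List.get_mem L k)
  have h3 : Nat.card (Fin L.length) ≤ (WJ cs J).index := by
    refine Nat.card_le_card_of_injective (fun k => (QuotientGroup.mk (w k)⁻¹ : W ⧸ WJ cs J)) ?_
    intro a b hab
    have h4 : w a * (w b)⁻¹ ∈ WJ cs J := by
      have := QuotientGroup.eq.1 hab
      rwa [inv_inv] at this
    have h5 := co_mul_left cs h hi h4 (w b)
    have h6 := co_mul_left cs h hk h4 (w b)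
    rw [inv_mul_cancel_right] at h5 h6
    have hab' : L.get a = L.get b := by rw [← hw a, ← hw b, h5, h6]
    exact List.nodup_iff_injective_get.1 h2 hab'
  rwa [Nat.card_eq_fintype_card, Fintype.card_fin] at h3

end two

set_option maxHeartbeats 1000000 in
theorem index_E6_two {W : Type*} [Group W] [Finite W] (cs : CoxeterSystem CoxeterMatrix.E₆ W) {J : Set (Fin 6)}
    (h0 : (0 : Fin 6) ∉ J) (h5 : (5 : Fin 6) ∉ J) : 30 ≤ (WJ cs J).index :=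
  index_ge_two cs isCartan_cE6 h0 h5 [![0, 1, 0, 1, -1, -1], ![0, -1, 0, 2, -2, 1], ![0, -1, 0, 1, 1, -2], ![0, 0, 1, -1, 0, 2], ![-2, 1, 1, 0, 0, 0], ![2, -1, -1, 1, 0, 0], ![1, 1, -2, 1, 0, 0], ![-1, -1, 2, 0, 0, 0], ![0, 2, 1, -2, 1, 0], ![0, 1, 0, 1, -2, 1], ![0, 1, 0, 0, 1, -2], ![0, -1, 0, 0, 2, -1], ![0, -1, 0, 1, -1, 2], ![2, 1, -1, 0, 0, 0], ![1, -1, 1, 0, 0, 0], ![-1, 1, 2, -1, 0, 0], ![0, 0, -1, 2, -1, 0], ![0, 1, 0, -1, 2, -1], ![0, 1, 0, 0, -1, 2], ![0, -1, 0, 0, 1, 1], ![1, 1, 1, -1, 0, 0], ![-1, 0, 1, 1, -1, 0], ![0, 0, -1, 1, 1, -1], ![0, 1, 0, -1, 1, 1], ![1, 0, 0, 1, -1, 0], ![-1, 0, 1, 0, 1, -1], ![0, 0, -1, 1, 0, 1], ![1, 0, 0, 0, 1, -1], ![-1, 0, 1, 0, 0, 1], ![1, 0, 0, 0, 0, 1]] (by decide +kernel)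

/-- the opposition involution of `E₆` -/
def tau : Equiv.Perm (Fin 6) := Equiv.swap 0 5 * Equiv.swap 2 4

/-- the longest element of `W(E₆)` -/
def w0 : List (Fin 6) := [0, 1, 2, 0, 3, 1, 2, 0, 3, 2, 4, 3, 1, 2, 0, 3, 2, 4, 3, 1, 5, 4, 3, 1, 2, 0, 3, 2, 4, 3, 1, 5,
  4, 3, 2, 0]

theorem w0_tab : ∀ i m : Fin 6, cf cE6 i w0 m = -(if i = tau m then 1 else 0) := by decide +kernel

theorem exists_w0 {W : Type*} [Group W] (cs : CoxeterSystem CoxeterMatrix.E₆ W) {A : Fin 6 → Fin 6 → ℤ}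
    (h : IsCartan CoxeterMatrix.E₆ A) (hA : A = cE6) : ∃ w : W, ∀ i, rep cs h w (sr i) = -sr (tau i) := by
  subst hA
  refine ⟨cs.wordProd w0, fun m => ?_⟩
  funext i
  have h1 := congrFun (co_wordProd cs h i w0) m
  change rep cs h (cs.wordProd w0) (sr m) i = _ at h1
  rw [h1, w0_tab]
  change _ = -(sr (tau m) i)
  by_cases hi : i = tau m
  · rw [if_pos hi, hi, sr_self]
  · rw [if_neg hi, sr_ne hi]

theorem cartan_tab : ∀ i j : Fin 6, Cfsg.Agent.ChevalleyStructure.CoxeterGeomTypes.cartanOf Cfsg.Lie.chevE6 6 i j = cE6 i j := by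
  decide +kernel

/-! ### cores with an invariant form -/

/-- **The dimensions**, for a core with an invariant form. -/
theorem exists_J_sd {ι : Type} [Fintype ι] [DecidableEq ι] {F : Type u} [Field F] [Finite F] {P : Subgroup (GL ι F)}
    (hC : Core P) {σ : F ≃+* F} {f₀ : (ι → F) → (ι → F) → F} (hs : SForm σ f₀)
    (hf₀ : ∀ g ∈ P, ∀ x y, f₀ ((g : Matrix ι ι F) *ᵥ x) ((g : Matrix ι ι F) *ᵥ y) = f₀ x y)
    {I W : Type*} {G : Type v} [Fintype I] [DecidableEq I] [Group W] [Finite W] [Group G]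
    {M : CoxeterMatrix I} {cs : CoxeterSystem M W} {A : I → I → ℤ} {h : IsCartan M A} {p : ℕ} [hp : Fact p.Prime]
    [CharP F p] {T : Subgroup G} {n : I → G} {X : (I → ℤ) → Subgroup G} (R : RGD cs h p T n X)
    (hgen : G1 cs h X = ⊤) (hT : ∀ s ∈ T, ∀ t ∈ T, s * t = t * s) {E : I → Type} [∀ i, Field (E i)]
    [∀ i, Fintype (E i)] [∀ i, CharP (E i) p] {θ : ∀ i, SL(2, E i) →* G} (N : ∀ i, Nd T n X i (θ i))
    (e : Soc P ≃* G) {a : ℕ} (hF : Nat.card F = p ^ a) {f : I → ℕ} (hE : ∀ i, Fintype.card (E i) = p ^ f i) :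
    ∃ J : Set I, (∃ i, i ∉ J) ∧
      (∀ i, i ∉ J → (WJ cs J).index * 2 ^ (f i / Nat.gcd a (f i)) ≤ 2 * Fintype.card ι) ∧
      ∀ (w : W) (τ : Equiv.Perm I), (∀ i, rep cs h w (sr i) = -sr (τ i)) → ∀ i, i ∈ J ↔ τ i ∈ J := by
  classical
  have hfin : Finite P := inferInstance
  have hsimple := hC.simple
  -- the covering group, in universe zero
  let Y : Type := Shrink.{0} P
  let ψ : Y ≃* P := Shrink.mulEquiv
  have hYf : Finite Y := Finite.of_equiv _ ψ.symm.toEquiv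
  let φ : Y →* GL ι F := P.subtype.comp ψ.toMonoidHom
  have hφ : φ.range = P := by
    rw [MonoidHom.range_comp, MonoidHom.range_eq_top.2 (show Function.Surjective ψ.toMonoidHom from ψ.surjective),
      ← MonoidHom.range_eq_map, Subgroup.range_subtype]
  have hφi : Function.Injective φ := Subtype.val_injective.comp ψ.injective
  let π : Y →* G := (prj e).comp ψ.toMonoidHom
  have hker : ∀ y : Y, y ∈ π.ker ↔ ψ y ∈ (scalars ι F).subgroupOf P := by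
    intro y
    rw [← prj_ker e, MonoidHom.mem_ker, MonoidHom.mem_ker]
    rfl
  have hd : PCE π := by
    refine ⟨(prj_surjective e).comp ψ.surjective, ?_, ?_⟩
    · intro y hy
      rw [Subgroup.mem_center_iff]
      intro z
      apply ψ.injective
      rw [map_mul, map_mul]
      exact Subgroup.mem_center_iff.1 (subgroupOf_scalars_le P ((hker y).1 hy)) (ψ z)
    · have hP := commutator_eq_top_of_perfect hC.perfect
      have h1 := congrArg (Subgroup.map ψ.symm.toMonoidHom) hP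
      rw [commutator_def, Subgroup.map_commutator] at h1
      have h2 : (⊤ : Subgroup P).map ψ.symm.toMonoidHom = ⊤ := by
        rw [← MonoidHom.range_eq_map, MonoidHom.range_eq_top]
        exact ψ.symm.surjective
      rw [h2] at h1
      exact h1
  have hcop : (Nat.card π.ker).Coprime p := by
    refine Nat.Coprime.coprime_dvd_left ?_ (card_scalars_coprime (p := p) P)
    refine Subgroup.card_dvd_of_injective ((ψ.toMonoidHom.comp π.ker.subtype).codRestrict ((scalars ι F).subgroupOf P)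
      (fun x => (hker _).1 x.2)) ?_
    intro x y e
    have e1 : ψ (x : Y) = ψ (y : Y) := congrArg (fun z : (scalars ι F).subgroupOf P => (z : P)) e
    exact Subtype.ext (ψ.injective e1)
  obtain ⟨θ', hθ', R', hgen', hT', N'⟩ := exists_lift hp.out hd hcop R hgen hT N
  -- the representation
  have hne : Nonempty ι := by
    by_contra hcon
    rw [not_nonempty_iff] at hcon
    exact absurd (hC.nonabelian) (not_not.2 ⟨⟨fun a b => by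
      obtain ⟨a, rfl⟩ := QuotientGroup.mk_surjective a
      obtain ⟨b, rfl⟩ := QuotientGroup.mk_surjective b
      rw [Subsingleton.elim a b]⟩⟩)
  have hchar : CharP (AlgebraicClosure F) p := charP_of_injective_algebraMap (algebraMap F _).injective p
  have hGG : GG cs h (T.comap π) (fun x => lft p π (X x)) = ⊤ := gg_eq_top hgen'
  have hirr : ∀ L : Submodule (AlgebraicClosure F) (ι → AlgebraicClosure F),
      Ivt (lin (acRep φ)) (GG cs h (T.comap π) (fun x => lft p π (X x))) L → L = ⊥ ∨ L = ⊤ :=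
    fun L hL => acRep_irr hφ (H920.span_eq_top hC.absIrred) hGG L hL
  obtain ⟨c, hc, hc0, χ, hχ⟩ := exists_chi R' hirr hT'
  have hD := finrank_D R' hirr hT'
  have hdim : Module.finrank (AlgebraicClosure F) (ι → AlgebraicClosure F) = Fintype.card ι :=
    Module.finrank_fintype_fun_eq_card _
  refine ⟨Jx cs h (fun x => lft p π (X x)) (lin (acRep φ)), ?_, ?_, ?_⟩
  · have h1 : Jx cs h (fun x => lft p π (X x)) (lin (acRep φ)) ≠ Set.univ := by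
      refine Jx_ne_univ R' hirr hgen' ?_
      by_contra hcon
      push Not at hcon
      have h1 : ∀ y : Y, y = 1 := fun y => acRep_injective hφi (hcon y)
      exact absurd (hC.nonabelian) (not_not.2 ⟨⟨fun a b => by
        obtain ⟨a, rfl⟩ := QuotientGroup.mk_surjective a
        obtain ⟨b, rfl⟩ := QuotientGroup.mk_surjective b
        rw [ψ.symm.injective ((h1 (ψ.symm a)).trans (h1 (ψ.symm b)).symm)]⟩⟩)
    exact (Set.ne_univ_iff_exists_notMem _).1 h1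
  · intro i hi
    obtain ⟨j⟩ := exists_emb F (E i) p
    have h1 := le_Le R' hGG hφ hC.absIrred hF (hE i) j hc hc0 hχ (θ' i) (i := i) (nd_U (N' i)) (nd_Lo R' (N' i))
      (nd_ww R' (N' i)) (nd_hh (N' i)) hi
    have h2 : 1 ≤ f i / Nat.gcd a (f i) := by
      have h3 : 0 < f i := by
        rcases Nat.eq_zero_or_pos (f i) with h0 | h0
        · have h4 := hE i
          rw [h0, pow_zero] at h4
          have h5 := Fintype.one_lt_card (α := E i)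
          omega
        · exact h0
      exact Nat.div_pos (Nat.le_of_dvd h3 (Nat.gcd_dvd_right _ _)) (Nat.gcd_pos_of_pos_right _ h3)
    have h3 : 2 ≤ 2 ^ (f i / Nat.gcd a (f i)) := by
      calc 2 = 2 ^ 1 := rfl
        _ ≤ _ := Nat.pow_le_pow_right (by norm_num) h2
    have h4 := edge_bound R' hirr hD i (h3.trans h1)
    rw [hdim] at h4
    exact (Nat.mul_le_mul_left _ h1).trans h4
  · intro w τ hw i
    exact mem_Jx_opp R' hirr (fun B => hs.hsd (fun g x y => hf₀ (φ g) (ψ g).2 x y) B) hw i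

/-! ### numbers -/

/-- the exponents of `p` in `|F|^N ≤ 8 |Q| ≤ 8 |A|^5` -/
theorem expo_five {p a b N D s x y : ℕ} (hp : 2 ≤ p) (hb : 1 ≤ b) (hx : x ≤ 2 ^ s * b * p ^ (D * b))
    (hy : y ≤ x ^ 5) (h : (p ^ a) ^ N ≤ 8 * y) : a * N ≤ (5 * D + 5 * s + 8) * b := by
  have h1 : x ≤ p ^ (s + b + D * b) := by
    refine hx.trans ?_
    rw [pow_add, pow_add]
    refine Nat.mul_le_mul_right _ (Nat.mul_le_mul (Nat.pow_le_pow_left hp _) ?_)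
    exact (Nat.lt_two_pow_self).le.trans (Nat.pow_le_pow_left hp _)
  have h2 : (p ^ a) ^ N ≤ p ^ (3 + (s + b + D * b) * 5) := by
    refine h.trans ?_
    rw [pow_add, pow_mul]
    refine Nat.mul_le_mul ?_ (hy.trans (Nat.pow_le_pow_left h1 5))
    calc 8 = 2 ^ 3 := by norm_num
      _ ≤ _ := Nat.pow_le_pow_left hp 3
  rw [← pow_mul] at h2
  have h3 := (Nat.pow_le_pow_iff_right (by omega : 1 < p)).1 h2
  have h4 : (5 * D + 5 * s + 8) * b = 3 * b + 5 * s * b + (b + D * b) * 5 := by ring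
  have h5 : 5 * s ≤ 5 * s * b := Nat.le_mul_of_pos_right _ hb
  have h6 : 3 + (s + b + D * b) * 5 = 3 + 5 * s + (b + D * b) * 5 := by ring
  omega

/-- the linear kind: `a (n ^ 2 - 2) ≤ R b`, `b ≤ a j`, `c 2^j ≤ 2 n` -/
theorem fin_num_lin {n a b j c R : ℕ} (ha : 1 ≤ a) (hj : 1 ≤ j) (hb : b ≤ a * j) (hc : c * 2 ^ j ≤ 2 * n)
    (h : a * (n ^ 2 - 2) ≤ R * b) (hR : R + 2 < c ^ 2) : False := by
  have h1 : c * j ≤ n := by
    have h2 := Nat.mul_le_mul_left c (Cfsg.Agent.H243.EP.two_mul_le_two_pow hj)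
    have h3 : c * (2 * j) = 2 * (c * j) := by ring
    omega
  have h3 : a * (n ^ 2 - 2) ≤ a * (R * j) := by
    calc a * (n ^ 2 - 2) ≤ R * b := h
      _ ≤ R * (a * j) := Nat.mul_le_mul_left _ hb
      _ = a * (R * j) := by ring
  have h4 := Nat.le_of_mul_le_mul_left h3 ha
  have h5 : (c * j) ^ 2 ≤ n ^ 2 := Nat.pow_le_pow_left h1 2
  have h6 : (R + 2) * j < c ^ 2 * j := (Nat.mul_lt_mul_right hj).2 hR
  have h7 : c ^ 2 * j ≤ (c * j) ^ 2 := by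
    rw [mul_pow]
    exact Nat.mul_le_mul_left _ (Nat.le_self_pow (by norm_num) j)
  have h8 : (R + 2) * j = R * j + 2 * j := by ring
  omega

section own

variable {Q : Type} [Group Q] [Finite Q] {A : Subgroup Q} {Γ : Subgroup (MulAut Q)} {ι : Type} [Fintype ι]
    [DecidableEq ι] {F : Type} [Field F] [Fintype F] {S P : Subgroup (GL ι F)}

variable {p : ℕ} [hp : Fact p.Prime] [hcF : CharP F p] {K : Type} [Field K] [Fintype K] [hcK : CharP K p]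
  (b : Big A Γ S P) (hUB : Nat.card Q ≤ Nat.card A ^ 5)
include hp hcF hcK b hUB

/-- the three kinds with a form, and the exponents of the linear kind -/
theorem own_chev_five {D : Cfsg.Lie.ChevalleyDatum} {l : ℕ} {M : CoxeterMatrix (Fin l)}
    (ht : Cfsg.Agent.Nodes.RGDChev.IsType D l M)
    (hpar : parity D l = true) {c c' d : ℕ}
    (hidx : ∀ (_ : Finite M.Group) (J : Set (Fin l)) (i : Fin l), i ∉ J → c ≤ (WJ M.toCoxeterSystem J).index)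
    (hidx' : ∀ (_ : Finite M.Group) (J : Set (Fin l)) (i : Fin l), i ∉ J →
      (∀ (w : M.Group) (τ : Equiv.Perm (Fin l)), (∀ i, rep M.toCoxeterSystem ht.isCartan w (sr i) = -sr (τ i)) →
        ∀ i, i ∈ J ↔ τ i ∈ J) → c' ≤ (WJ M.toCoxeterSystem J).index)
    (hcard : ∀ k, Fintype.card K = p ^ k → Nat.card (MulAut ↥(D.group K)) ≤ 2 ^ 1 * k * p ^ (d * k))
    (hR : 5 * d + 5 * 1 + 8 + 2 < c ^ 2) (hR' : 2 * (5 * d + 5 * 1 + 8) < c' * (c' - 1))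
    (e : socle P ≃* ↥(D.group K)) : False := by
  obtain ⟨a, -, hF⟩ := FiniteField.card F p
  obtain ⟨k, -, hK⟩ := FiniteField.card K p
  have hF' : Nat.card F = p ^ (a : ℕ) := by rw [Nat.card_eq_fintype_card, hF]
  have : Finite M.Group := Cfsg.Agent.Nodes.RGDChev.finite_W ht M.toCoxeterSystem
  have hx : Nat.card A ≤ 2 ^ 1 * k * p ^ (d * k) := (b.hasSoc' e).card_le.trans (hcard k hK)
  have h5 : 1 ≤ (k : ℕ) / Nat.gcd a k :=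
    Nat.div_pos (Nat.le_of_dvd k.pos (Nat.gcd_dvd_right _ _)) (Nat.gcd_pos_of_pos_right _ k.pos)
  have h6 : (k : ℕ) ≤ a * (k / Nat.gcd a k) := by
    calc (k : ℕ) = Nat.gcd a k * (k / Nat.gcd a k) := (Nat.mul_div_cancel' (Nat.gcd_dvd_right _ _)).symm
      _ ≤ _ := Nat.mul_le_mul_right _ (Nat.gcd_le_left _ a.pos)
  rcases form_of_kind b with ⟨-, ho⟩ | ⟨σ, f₀, hs, hf₀⟩
  · obtain ⟨J, ⟨i, hi⟩, h2, -⟩ := exists_J (core_of_residual b.core)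
      (Cfsg.Agent.Nodes.RGDChev.rgd (K := K) ht M.toCoxeterSystem p)
      (Cfsg.Agent.Nodes.RGDChev.G1_eq_top ht M.toCoxeterSystem)
      (fun s hs t ht' => Subtype.ext (diag_comm ht.inList hs ht')) (E := fun _ => K) (nd ht hpar K) e hF'
      (f := fun _ => (k : ℕ)) (fun _ => hK)
    have h3 := h2 i hi
    have h4 := hidx this J i hi
    refine fin_num_lin (n := Fintype.card ι) a.pos h5 h6 ((Nat.mul_le_mul_right _ h4).trans h3) ?_ hR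
    refine expo_five hp.out.two_le k.pos hx hUB ?_
    rw [← hF]
    exact ho.trans (Nat.le_mul_of_pos_left _ (by norm_num))
  · obtain ⟨J, ⟨i, hi⟩, h2, h7⟩ := exists_J_sd (core_of_residual b.core) hs hf₀
      (Cfsg.Agent.Nodes.RGDChev.rgd (K := K) ht M.toCoxeterSystem p)
      (Cfsg.Agent.Nodes.RGDChev.G1_eq_top ht M.toCoxeterSystem)
      (fun s hs t ht' => Subtype.ext (diag_comm ht.inList hs ht')) (E := fun _ => K) (nd ht hpar K) e hF'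
      (f := fun _ => (k : ℕ)) (fun _ => hK)
    have h3 := h2 i hi
    have h4 := hidx' this J i hi h7
    refine Cfsg.Agent.H243.EP.fin_num (n := Fintype.card ι) a.pos h5 h6 ((Nat.mul_le_mul_right _ h4).trans h3) ?_ hR'
    refine expo_five hp.out.two_le k.pos hx hUB ?_
    rw [← hF]
    exact b.ord

theorem own_f4_five (e : socle P ≃* ↥(Cfsg.Lie.chevF4.group K)) : False := by
  refine own_chev_five (p := p) b hUB Cfsg.Agent.H64.CrossChev.isType_F4 parity_F4 (c := 24) (c' := 24) (d := 52)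
    (fun _ J i hi => Cfsg.Agent.H2.Ppd.index_F4 _ hi) (fun _ J i hi _ => Cfsg.Agent.H2.Ppd.index_F4 _ hi)
    (fun k hk => ?_) (by norm_num) (by norm_num) e
  refine Cfsg.Agent.H243.EP.card_aut_le.trans ?_
  rw [S2122.result p k hk, S1062.result rfl, hk]
  have h1 : Nat.gcd 2 p ≤ 2 := Nat.gcd_le_left _ (by norm_num)
  calc Nat.gcd 2 p * k * ((p ^ k) ^ 24 * ((p ^ k) ^ 2 - 1) * ((p ^ k) ^ 6 - 1) * ((p ^ k) ^ 8 - 1) * ((p ^ k) ^ 12 - 1))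
      ≤ 2 * k * ((p ^ k) ^ 24 * (p ^ k) ^ 2 * (p ^ k) ^ 6 * (p ^ k) ^ 8 * (p ^ k) ^ 12) := by
        gcongr <;> exact Nat.sub_le _ _
    _ = 2 ^ 1 * k * p ^ (52 * k) := by rw [mul_comm 52 k, pow_mul]; ring

theorem own_e6_five (e : socle P ≃* ↥(Cfsg.Lie.chevE6.group K)) : False := by
  refine own_chev_five (p := p) b hUB isType_E6 parity_E6 (c := 27) (c' := 30) (d := 78)
    (fun _ J i hi => Cfsg.Agent.H243.EP.index_E6 _ hi) (fun _ J i hi hJ => ?_) (fun k hk => ?_) (by norm_num)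
    (by norm_num) e
  · obtain ⟨w, hw⟩ := exists_w0 CoxeterMatrix.E₆.toCoxeterSystem isType_E6.isCartan
      (funext fun i => funext fun j => cartan_tab i j)
    have h1 : (0 : Fin 6) ∈ J ↔ (5 : Fin 6) ∈ J := hJ w tau hw 0
    by_cases h0 : i = 0
    · rw [h0] at hi
      exact index_E6_two _ hi fun h => hi (h1.2 h)
    by_cases h5 : i = 5
    · rw [h5] at hi
      exact index_E6_two _ (fun h => hi (h1.1 h)) hi
    exact index_E6_mid _ hi h0 h5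
  · refine Cfsg.Agent.H243.EP.card_aut_le.trans ?_
    rw [S2123.result p k hk]
    have h1 : 2 * Nat.gcd 3 (p ^ k - 1) * k * Nat.card ↥(Cfsg.Lie.chevE6.group K) =
        2 * k * (Nat.gcd 3 (Fintype.card K - 1) * Nat.card ↥(Cfsg.Lie.chevE6.group K)) := by rw [hk]; ring
    rw [h1, S1063.result rfl, hk]
    calc 2 * k * ((p ^ k) ^ 36 * ((p ^ k) ^ 2 - 1) * ((p ^ k) ^ 5 - 1) * ((p ^ k) ^ 6 - 1) * ((p ^ k) ^ 8 - 1) *
          ((p ^ k) ^ 9 - 1) * ((p ^ k) ^ 12 - 1))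
        ≤ 2 * k * ((p ^ k) ^ 36 * (p ^ k) ^ 2 * (p ^ k) ^ 5 * (p ^ k) ^ 6 * (p ^ k) ^ 8 * (p ^ k) ^ 9 *
          (p ^ k) ^ 12) := by
          gcongr <;> exact Nat.sub_le _ _
      _ = 2 ^ 1 * k * p ^ (78 * k) := by rw [mul_comm 78 k, pow_mul]; ring

theorem own_e7_five (e : socle P ≃* ↥(Cfsg.Lie.chevE7.group K)) : False := by
  refine own_chev_five (p := p) b hUB isType_E7 parity_E7 (c := 38) (c' := 38) (d := 133)
    (fun _ J i hi => index_E7 _ hi) (fun _ J i hi _ => index_E7 _ hi) (fun k hk => ?_) (by norm_num) (by norm_num) e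
  refine Cfsg.Agent.H243.EP.card_aut_le.trans ?_
  rw [S2124.result p k hk]
  have h1 : Nat.gcd 2 (p ^ k - 1) * k * Nat.card ↥(Cfsg.Lie.chevE7.group K) =
      k * (Nat.gcd 2 (Fintype.card K - 1) * Nat.card ↥(Cfsg.Lie.chevE7.group K)) := by rw [hk]; ring
  rw [h1, S1064.result rfl, hk]
  calc k * ((p ^ k) ^ 63 * ((p ^ k) ^ 2 - 1) * ((p ^ k) ^ 6 - 1) * ((p ^ k) ^ 8 - 1) * ((p ^ k) ^ 10 - 1) *
        ((p ^ k) ^ 12 - 1) * ((p ^ k) ^ 14 - 1) * ((p ^ k) ^ 18 - 1))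
      ≤ (2 * k) * ((p ^ k) ^ 63 * (p ^ k) ^ 2 * (p ^ k) ^ 6 * (p ^ k) ^ 8 * (p ^ k) ^ 10 *
        (p ^ k) ^ 12 * (p ^ k) ^ 14 * (p ^ k) ^ 18) := by
        gcongr
        · omega
        all_goals exact Nat.sub_le _ _
    _ = 2 ^ 1 * k * p ^ (133 * k) := by rw [mul_comm 133 k, pow_mul]; ring

theorem own_e8_five (e : socle P ≃* ↥(Cfsg.Lie.chevE8.group K)) : False := by
  refine own_chev_five (p := p) b hUB Cfsg.Agent.H64.CrossChev.isType_E8 parity_E8 (c := 60) (c' := 60) (d := 248)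
    (fun _ J i hi => Cfsg.Agent.H2.Ppd.index_E8 _ hi) (fun _ J i hi _ => Cfsg.Agent.H2.Ppd.index_E8 _ hi)
    (fun k hk => ?_) (by norm_num) (by norm_num) e
  refine Cfsg.Agent.H243.EP.card_aut_le.trans ?_
  rw [S2125.result p k hk, S1065.result rfl, hk]
  calc k * ((p ^ k) ^ 120 * ((p ^ k) ^ 2 - 1) * ((p ^ k) ^ 8 - 1) * ((p ^ k) ^ 12 - 1) * ((p ^ k) ^ 14 - 1) *
        ((p ^ k) ^ 18 - 1) * ((p ^ k) ^ 20 - 1) * ((p ^ k) ^ 24 - 1) * ((p ^ k) ^ 30 - 1))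
      ≤ (2 * k) * ((p ^ k) ^ 120 * (p ^ k) ^ 2 * (p ^ k) ^ 8 * (p ^ k) ^ 12 * (p ^ k) ^ 14 *
        (p ^ k) ^ 18 * (p ^ k) ^ 20 * (p ^ k) ^ 24 * (p ^ k) ^ 30) := by
        gcongr
        · omega
        all_goals exact Nat.sub_le _ _
    _ = 2 ^ 1 * k * p ^ (248 * k) := by rw [mul_comm 248 k, pow_mul]; ring

theorem own_2e6_five {q₀ : ℕ} (hq : IsPrimePow q₀) (hK : Fintype.card K = q₀ ^ 2)
    (e : socle P ≃* ↥(Cfsg.Lie.twistedE6 K q₀)) : False := by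
  classical
  obtain ⟨a, -, hF⟩ := FiniteField.card F p
  obtain ⟨b', -, hK'⟩ := FiniteField.card K p
  have hF' : Nat.card F = p ^ (a : ℕ) := by rw [Nat.card_eq_fintype_card, hF]
  -- `q₀ = p ^ k`
  obtain ⟨k, hk, hqb⟩ : ∃ k, 0 < k ∧ q₀ = p ^ k := by
    obtain ⟨s, c, hs, hc, rfl⟩ := (isPrimePow_nat_iff _).1 hq
    have h1 : s = p := by
      have h2 : s ∣ p ^ (b' : ℕ) := by
        rw [← hK', hK]
        exact dvd_pow (dvd_pow_self s hc.ne') (by norm_num)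
      exact (Nat.prime_dvd_prime_iff_eq hs hp.out).1 (hs.dvd_of_dvd_pow h2)
    exact ⟨c, hc, by rw [h1]⟩
  have hq1 := hq.one_lt
  have hb2 : 0 < k * 2 := by omega
  -- the order of `Aut`
  have haut : Nat.card (MulAut ↥(Cfsg.Lie.twistedE6 K q₀)) ≤ 2 ^ 3 * k * p ^ (78 * k) := by
    refine Cfsg.Agent.H243.EP.card_aut_le.trans ?_
    have h0 : Nat.card (Cfsg.Out ↥(Cfsg.Lie.twistedE6 K q₀)) = 2 * Nat.gcd 3 (q₀ + 1) * k := by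
      subst hqb
      exact S2130.result p k (by rw [hK, ← pow_mul, mul_comm]) hk
    rw [h0]
    have h1 : 2 * Nat.gcd 3 (q₀ + 1) * k * Nat.card ↥(Cfsg.Lie.twistedE6 K q₀) =
        2 * k * (Nat.gcd 3 (q₀ + 1) * Nat.card ↥(Cfsg.Lie.twistedE6 K q₀)) := by ring
    rw [h1, S1066.result hq hK]
    calc 2 * k * (q₀ ^ 36 * (q₀ ^ 2 - 1) * (q₀ ^ 5 + 1) * (q₀ ^ 6 - 1) * (q₀ ^ 8 - 1) * (q₀ ^ 9 + 1) *
          (q₀ ^ 12 - 1)) ≤ 2 * k * (4 * q₀ ^ 78) := Nat.mul_le_mul_left _ (Cfsg.Agent.H243.EP.e6tw_le hq1)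
      _ = 2 ^ 3 * k * p ^ (78 * k) := by rw [hqb, mul_comm 78 k, pow_mul]; ring
  have hexp : (a : ℕ) * (Fintype.card ι * (Fintype.card ι - 1) / 2) ≤ (5 * 78 + 5 * 3 + 8) * k := by
    refine expo_five hp.out.two_le hk ((b.hasSoc' e).card_le.trans haut) hUB ?_
    rw [← hF]
    exact b.ord
  -- the data
  obtain ⟨φ, hφ, hqq⟩ := Cfsg.Agent.ChevalleyStructure.TwE6Basic.exists_frob hq hK
  let _ : ∀ i : Fin 4, Fintype (Cfsg.Agent.Nodes.RGDFoldSL.Fx φ ((Nodes.RGDTwNode.E6.rest i).length + 1)) :=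
    fun i => Fintype.ofFinite _
  have hch : ∀ i : Fin 4, CharP (Cfsg.Agent.Nodes.RGDFoldSL.Fx φ ((Nodes.RGDTwNode.E6.rest i).length + 1)) p :=
    fun i => (RingHom.charP_iff (Cfsg.Agent.Nodes.RGDFoldSL.Fx φ _).subtype
      (Cfsg.Agent.Nodes.RGDFoldSL.Fx φ _).subtype_injective p).2 inferInstance
  have hN := fun i : Fin 4 =>
    Cfsg.Agent.H59.CrossTw.nd_fold (Nodes.RGDTwE6.foldGrp hφ hqq) (Nodes.RGDTwNode.E6.nodeOK i) (φ := φ)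
      (fun s hs t => by rw [Nodes.RGDTwNode.E6.eps_one i s hs, Int.cast_one, one_mul])
      (Cfsg.Agent.KFacts.MulOdd.InstTw.parityTw_spec Cfsg.Agent.KFacts.MulOdd.InstTw.parity_E6 i).choose_spec.1
      (Cfsg.Agent.KFacts.MulOdd.InstTw.parityTw_spec Cfsg.Agent.KFacts.MulOdd.InstTw.parity_E6 i).choose_spec.2
  have hW : Finite CoxeterMatrix.F₄.Group :=
    Cfsg.Agent.Nodes.RGDFold.finite_W (hp := isType_E6) CoxeterMatrix.F₄.toCoxeterSystem Nodes.RGDTwE6.isCartan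
      Nodes.RGDTwE6.foldData
  have hcard : ∀ i : Fin 4, Fintype.card (Cfsg.Agent.Nodes.RGDFoldSL.Fx φ ((Nodes.RGDTwNode.E6.rest i).length + 1)) =
      p ^ (![k, k, k * 2, k * 2] i) := by
    have e1 : Nat.card (Cfsg.Agent.Nodes.RGDFoldSL.Fx φ 1) = q₀ := by
      have h2 := Cfsg.Agent.H59.CrossTw.card_Fx_one hq1 hK hφ
      have h3 : 0 < Nat.card (Cfsg.Agent.Nodes.RGDFoldSL.Fx φ 1) := Nat.card_pos
      omega
    have e2 := Cfsg.Agent.H59.CrossTw.card_Fx_eq hK hφ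
    intro i
    rw [← Nat.card_eq_fintype_card]
    fin_cases i
    · exact e1.trans hqb
    · exact e1.trans hqb
    · refine e2.trans ?_
      rw [hqb, ← pow_mul]
      rfl
    · refine e2.trans ?_
      rw [hqb, ← pow_mul]
      rfl
  obtain ⟨J, ⟨i, hi⟩, h2, h3⟩ := exists_J (core_of_residual b.core)
    (Nodes.RGDFold.rgd CoxeterMatrix.F₄.toCoxeterSystem Nodes.RGDTwE6.isCartan Nodes.RGDTwE6.foldData
      (Nodes.RGDTwE6.foldGrp hφ hqq) p)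
    (Nodes.RGDFold.G1_eq_top CoxeterMatrix.F₄.toCoxeterSystem Nodes.RGDTwE6.isCartan Nodes.RGDTwE6.foldData
      (Nodes.RGDTwE6.foldGrp hφ hqq) p)
    (fun s hs t ht' => Subtype.ext (diag_comm isType_E6.inList (Subgroup.mem_subgroupOf.1 hs).1
      (Subgroup.mem_subgroupOf.1 ht').1)) hN e hF' hcard
  -- `e_S` and `e_L`
  have hS : 1 ≤ k * 2 / Nat.gcd a (k * 2) :=
    Nat.div_pos (Nat.le_of_dvd hb2 (Nat.gcd_dvd_right _ _)) (Nat.gcd_pos_of_pos_right _ hb2)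
  have hL : 1 ≤ k / Nat.gcd a k :=
    Nat.div_pos (Nat.le_of_dvd hk (Nat.gcd_dvd_right _ _)) (Nat.gcd_pos_of_pos_right _ hk)
  have hSL : k * 2 / Nat.gcd a (k * 2) ≤ 2 * (k / Nat.gcd a k) := div_gcd_le hk
  have haS : 2 * k ≤ a * (k * 2 / Nat.gcd a (k * 2)) := by
    calc 2 * k = Nat.gcd a (k * 2) * (k * 2 / Nat.gcd a (k * 2)) := by
          rw [Nat.mul_div_cancel' (Nat.gcd_dvd_right _ _), mul_comm]
      _ ≤ _ := Nat.mul_le_mul_right _ (Nat.gcd_le_left _ a.pos)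
  have g2 := h2 2
  have g3 := h2 3
  have g1 := h2 1
  change 2 ∉ J → _ * 2 ^ (k * 2 / Nat.gcd a (k * 2)) ≤ _ at g2
  change 3 ∉ J → _ * 2 ^ (k * 2 / Nat.gcd a (k * 2)) ≤ _ at g3
  change 1 ∉ J → _ * 2 ^ (k / Nat.gcd a k) ≤ _ at g1
  have g0 := fun h0 : (0 : Fin 4) ∉ J => fun hJ => h3 0 h0 hJ 3 (H2.Ppd.LF.filter fun v => decide (0 < v 3))
    (H2.Ppd.LF.filter fun v => decide (v 3 = 0))
  change ∀ h0 : (0 : Fin 4) ∉ J, _ → _ → _ → _ → _ → _ → _ →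
    _ * 2 ^ (k * 2 / Nat.gcd a (k * 2)) + _ ≤ _ at g0
  set S := k * 2 / Nat.gcd a (k * 2) with hSdef
  set T := k / Nat.gcd a k with hTdef
  have hSp := Cfsg.Agent.H243.EP.two_mul_le_two_pow hS
  have hTp := Cfsg.Agent.H243.EP.two_mul_le_two_pow hL
  refine Cfsg.Agent.H243.EP.fin_num_tw (n := Fintype.card ι) (a := a) (b := k) (S := S) (R := 5 * 78 + 5 * 3 + 8) a.pos hS haS ?_ hexp
    (by norm_num)
  by_cases h20 : (2 : Fin 4) ∈ J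
  swap
  · left
    have h9 := g2 h20
    have h10 := Nat.mul_le_mul (H2.Ppd.index_F4 CoxeterMatrix.F₄.toCoxeterSystem h20) hSp
    omega
  by_cases h30 : (3 : Fin 4) ∈ J
  swap
  · left
    have h9 := g3 h30
    have h10 := Nat.mul_le_mul (H2.Ppd.index_F4 CoxeterMatrix.F₄.toCoxeterSystem h30) hSp
    omega
  by_cases h10 : (1 : Fin 4) ∈ J
  swap
  · left
    have h9 := g1 h10
    have h10 := Nat.mul_le_mul (H2.Ppd.index_F4' CoxeterMatrix.F₄.toCoxeterSystem h10) hTp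
    omega
  have h00 : (0 : Fin 4) ∉ J := by
    intro h0
    apply hi
    fin_cases i
    · exact h0
    · exact h10
    · exact h20
    · exact h30
  obtain ⟨o1, o2⟩ := H2.Ppd.exists_of_chn CoxeterMatrix.F₄.toCoxeterSystem Nodes.RGDTwE6.isCartan H2.Ppd.chn_LF
  have h9 := g0 h00 (by
      intro i hi
      fin_cases i
      · rfl
      · exact absurd h10 hi
      · exact absurd h20 hi
      · exact absurd h30 hi)
    (fun v hv => of_decide_eq_true (List.mem_filter.1 hv).2)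
    (fun v hv => of_decide_eq_true (List.mem_filter.1 hv).2)
    (o2.filter _) (o2.filter _) (fun v hv => o1 v (List.mem_filter.1 hv).1) (fun v hv => o1 v (List.mem_filter.1 hv).1)
  rw [H2.Ppd.LF_pos, H2.Ppd.LF_zero] at h9
  rcases Nat.lt_or_ge S 2 with h12 | h12
  · left
    have h13 : S = 1 := by omega
    rw [h13] at h9 ⊢
    omega
  · right
    have h14 := three_mul_le h12
    omega

end own

end Cfsg.Agent.H855.EP.Sd
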